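import Groth.Agent.ExtPowSh.Basic
import Groth.Agent.Lib.TopDiff
import Groth.Agent.QCoh.PullbackBC
import Mathlib.LinearAlgebra.ExteriorPower.Basis

/-!
# Exterior powers of bundles, uniqueness, inverse images
-/

set_option linter.style.haveILetI false
set_option linter.unusedSectionVars false
set_option backward.isDefEq.respectTransparency false
set_option backward.isDefEq.respectTransparency.types false
set_option maxHeartbeats 1000000
set_option autoImplicit false

universe u

open CategoryTheory CategoryTheory.Limits AlgebraicGeometry TopologicalSpace Opposite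

noncomputable section

namespace Groth.Agent.ExtPowSh

open Groth.Agent

variable {X : Scheme.{u}}

/-- A morphism from linear maps on affine opens. -/
theorem exists_hom_of_affine {M N : X.Modules}
    (φ : ∀ U : X.affineOpens, M.val.obj (op U.1) →ₗ[Γ(X, U.1)] N.val.obj (op U.1))
    (hφ : ∀ (U V : X.affineOpens) (h : V.1 ≤ U.1) (s : M.val.obj (op U.1)),
      N.val.map (homOfLE h).op (φ U s) = φ V (M.val.map (homOfLE h).op s)) :
    ∃ ψ : M ⟶ N, ∀ (U : X.affineOpens) (s : M.val.obj (op U.1)), ψ.val.app (op U.1) s = φ U s := by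
  let ι : X.affineOpens → Opens X := fun U => U.1
  have hι : Opens.IsBasis (Set.range ι) := by
    rw [show Set.range ι = {U : X.Opens | IsAffineOpen U} from Subtype.range_coe]
    exact X.isBasis_affineOpens
  let N' : TopCat.Sheaf AddCommGrpCat.{u} X := ⟨N.presheaf, N.isSheaf⟩
  let α : (inducedFunctor ι).op ⋙ M.presheaf ⟶ (inducedFunctor ι).op ⋙ N'.1 :=
    { app := fun U => AddCommGrpCat.ofHom (φ U.unop).toAddMonoidHom
      naturality := fun U V g => by
        ext s
        exact (hφ U.unop V.unop ((inducedFunctor ι).map g.unop).le s).symm }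
  let ψ₀ : M.presheaf ⟶ N.presheaf := TopCat.Sheaf.restrictHomEquivHom M.presheaf N' hι α
  have hψ : ∀ (U : X.affineOpens) (s : M.val.obj (op U.1)), ψ₀.app (op U.1) s = φ U s := fun U s =>
    congrArg (fun q => q s) (TopCat.Sheaf.extend_hom_app M.presheaf N' hι α U)
  have hlin : ∀ (U : (Opens X)ᵒᵖ) (r : X.ringCatSheaf.obj.obj U) (m : M.val.obj U),
      ψ₀.app U (r • m) = r • (show N.val.obj U from ψ₀.app U m) := fun U r m => by
    refine TopCat.Sheaf.eq_of_locally_eq' N' (fun V : {V : X.affineOpens // V.1 ≤ U.unop} => V.1.1) U.unop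
      (fun V => homOfLE V.2) (fun y hy => ?_) _ _ fun V => ?_
    · obtain ⟨_, ⟨W, hW, rfl⟩, hyW, hWU⟩ := X.isBasis_affineOpens.exists_subset_of_mem_open hy U.unop.2
      exact Opens.mem_iSup.2 ⟨⟨⟨W, hW⟩, hWU⟩, hyW⟩
    · have hn : ∀ m' : M.val.obj U, N'.1.map (homOfLE V.2).op (ψ₀.app U m') =
          ψ₀.app (op V.1.1) (M.val.map (homOfLE V.2).op m') := fun m' =>
        (congr($(ψ₀.naturality (homOfLE V.2).op) m')).symm
      rw [hn, hψ, M.val.map_smul]
      refine Eq.trans ?_ (N.val.map_smul (homOfLE V.2).op r _).symm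
      refine (map_smul (φ V.1) _ _).trans (congrArg _ ?_)
      exact (hψ _ _).symm.trans (hn m).symm
  exact ⟨⟨PresheafOfModules.homMk ψ₀ hlin⟩, hψ⟩

variable {E : X.Modules} {i : ℕ}

/-- Exterior powers are unique. -/
theorem nonempty_iso {L₁ L₂ : X.Modules} (h₁ : ExtPow.IsExtPow i E L₁) (h₂ : ExtPow.IsExtPow i E L₂) :
    Nonempty (L₁ ≅ L₂) := by
  obtain ⟨φ, hφ⟩ := h₁
  obtain ⟨φ', hφ'⟩ := h₂
  obtain ⟨ψ, hψ⟩ := exists_hom_of_affine (M := L₁) (N := L₂)
    (fun U => ((φ U).trans (φ' U).symm).toLinearMap) fun U V h s => by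
      obtain ⟨z, rfl⟩ := (φ U).symm.surjective s
      show L₂.val.map (homOfLE h).op ((φ' U).symm (φ U ((φ U).symm z))) =
        (φ' V).symm (φ V (L₁.val.map (homOfLE h).op ((φ U).symm z)))
      rw [LinearEquiv.apply_symm_apply]
      have hz : z ∈ Submodule.span Γ(X, U.1) (Set.range (exteriorPower.ιMulti Γ(X, U.1) i)) := by
        rw [exteriorPower.ιMulti_span]; trivial
      induction hz using Submodule.span_induction with
      | mem _ hx =>
        obtain ⟨v, rfl⟩ := hx
        rw [hφ, hφ', LinearEquiv.apply_symm_apply]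
      | zero => simp only [map_zero]
      | add x y _ _ hx hy => simp only [map_add, hx, hy]
      | smul r x _ hx =>
        have e1 : (φ' U).symm (r • x) = r • (φ' U).symm x := (φ' U).symm.map_smul r x
        have e2 : (φ U).symm (r • x) = r • (φ U).symm x := (φ U).symm.map_smul r x
        rw [e1, e2]
        refine (L₂.val.map_smul _ r _).trans (Eq.trans ?_
          (congrArg (fun t => (φ' V).symm (φ V t)) (L₁.val.map_smul _ r _)).symm)
        refine Eq.trans ?_ (((congrArg (φ' V).symm ((φ V).map_smul _ _))).trans ((φ' V).symm.map_smul _ _)).symm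
        exact congrArg _ hx
  haveI : IsIso ψ := QCoh.isIso_of_isBasis ψ X.isBasis_affineOpens fun U hU => by
    have hf : (fun s => ψ.app U s) = fun s => ((φ ⟨U, hU⟩).trans (φ' ⟨U, hU⟩).symm) s :=
      funext fun s => hψ ⟨U, hU⟩ s
    show Function.Bijective fun s => ψ.app U s
    rw [hf]
    exact LinearEquiv.bijective _
  exact ⟨asIso ψ⟩

/-- Exterior powers of bundles are bundles. -/
theorem isFinLocFreeOfRank {r : ℕ} (hE : FlatMod.IsFinLocFreeOfRank r E) :
    FlatMod.IsFinLocFreeOfRank (r.choose i) (L E i) := by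
  have hq : Coh.IsQCoh E := QCoh.isQCoh_of_isFinLocFree fun x =>
    let ⟨U, hx, he⟩ := hE x; ⟨U, r, hx, he⟩
  intro x
  obtain ⟨U₀, hx, ⟨e₀⟩⟩ := hE x
  obtain ⟨b₀, hb₀⟩ := TopDiff.exists_bases e₀
  obtain ⟨_, ⟨U, hU, rfl⟩, hxU, hle⟩ :=
    X.isBasis_affineOpens.exists_subset_of_mem_open (show x ∈ U₀ from hx) U₀.2
  obtain ⟨B, -⟩ := TopDiff.basis_of_unique (R := Γ(X, U)) (fun j => AModX.res E hle (b₀ j)) (hb₀ U hle)
  haveI : Nonempty U := ⟨⟨x, hxU⟩⟩
  haveI : Nontrivial Γ(X, U) := inferInstance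
  haveI : Module.Free Γ(X, U) Γ(E, U) := Module.Free.of_basis B
  haveI : Module.Finite Γ(X, U) Γ(E, U) := Module.Finite.of_basis B
  let e := LinearEquiv.ofBijective (toL E i U) (toL_bijective E i hq hU)
  have hfr : Module.finrank Γ(X, U) ↥(⋀[Γ(X, U)]^i Γ(E, U)) = r.choose i := by
    rw [exteriorPower.finrank_eq, Module.finrank_eq_card_basis B, Fintype.card_fin]
  let b := (Module.finBasisOfFinrankEq Γ(X, U) ↥(⋀[Γ(X, U)]^i Γ(E, U)) hfr).reindex Equiv.ulift.{u}.symm
  exact ⟨U, hxU, QCoh.exists_free_restrict (isQCoh E i hq) hU (e.symm.trans b.repr)⟩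

theorem isFinLocFree (hE : FlatMod.IsFinLocFree E) : FlatMod.IsFinLocFree (L E i) := by
  have hq : Coh.IsQCoh E := QCoh.isQCoh_of_isFinLocFree hE
  intro x
  obtain ⟨U₀, r, hx, ⟨e₀⟩⟩ := hE x
  obtain ⟨b₀, hb₀⟩ := TopDiff.exists_bases e₀
  obtain ⟨_, ⟨U, hU, rfl⟩, hxU, hle⟩ :=
    X.isBasis_affineOpens.exists_subset_of_mem_open (show x ∈ U₀ from hx) U₀.2
  obtain ⟨B, -⟩ := TopDiff.basis_of_unique (R := Γ(X, U)) (fun j => AModX.res E hle (b₀ j)) (hb₀ U hle)
  haveI : Nonempty U := ⟨⟨x, hxU⟩⟩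
  haveI : Nontrivial Γ(X, U) := inferInstance
  haveI : Module.Free Γ(X, U) Γ(E, U) := Module.Free.of_basis B
  haveI : Module.Finite Γ(X, U) Γ(E, U) := Module.Finite.of_basis B
  let e := LinearEquiv.ofBijective (toL E i U) (toL_bijective E i hq hU)
  have hfr : Module.finrank Γ(X, U) ↥(⋀[Γ(X, U)]^i Γ(E, U)) = r.choose i := by
    rw [exteriorPower.finrank_eq, Module.finrank_eq_card_basis B, Fintype.card_fin]
  let b := (Module.finBasisOfFinrankEq Γ(X, U) ↥(⋀[Γ(X, U)]^i Γ(E, U)) hfr).reindex Equiv.ulift.{u}.symm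
  exact ⟨U, r.choose i, hxU, QCoh.exists_free_restrict (isQCoh E i hq) hU (e.symm.trans b.repr)⟩

/-- Any exterior power of a bundle is a bundle. -/
theorem isFinLocFree_of_isExtPow {L' : X.Modules} (hE : FlatMod.IsFinLocFree E) (h : ExtPow.IsExtPow i E L') :
    FlatMod.IsFinLocFree L' := fun x => by
  obtain ⟨e⟩ := nonempty_iso (isExtPow E i (QCoh.isQCoh_of_isFinLocFree hE)) h
  obtain ⟨U, r, hx, ⟨φ⟩⟩ := isFinLocFree (i := i) hE x
  exact ⟨U, r, hx, ⟨(Scheme.Modules.restrictFunctor U.ι).mapIso e.symm ≪≫ φ⟩⟩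

section pullback

variable {X' : Scheme.{u}} (f : X' ⟶ X) (E : X.Modules) (i : ℕ)

/-- Sections of a module, sent to sections of the inverse image. -/
def pullL (U : X.Opens) :
    E.val.obj (op U) →ₛₗ[(f.app U).hom] ((Scheme.Modules.pullback f).obj E).val.obj (op (f ⁻¹ᵁ U)) where
  toFun s := ((Scheme.Modules.pullbackPushforwardAdjunction f).unit.app E).app U s
  map_add' a b := map_add _ a b
  map_smul' r a := ((Scheme.Modules.pullbackPushforwardAdjunction f).unit.app E).app_smul r a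

/-- Wedges, sent to wedges of inverse images. -/
def pullPre : pre E i ⟶ DCoh.toP.obj
    ((Scheme.Modules.pushforward f).obj (L ((Scheme.Modules.pullback f).obj E) i)) where
  app U := ModuleCat.ofHom
    (Y := (ModuleCat.restrictScalars (f.app U.unop).hom).obj
      (ModuleCat.of Γ(X', f ⁻¹ᵁ U.unop) Γ(L ((Scheme.Modules.pullback f).obj E) i, f ⁻¹ᵁ U.unop)))
    { toFun := fun z => (toL ((Scheme.Modules.pullback f).obj E) i (f ⁻¹ᵁ U.unop)
        (map i (pullL f E U.unop) z) : Γ(L ((Scheme.Modules.pullback f).obj E) i, f ⁻¹ᵁ U.unop))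
      map_add' := fun a b => by rw [map_add, map_add]
      map_smul' := fun r a =>
        (congrArg (toL ((Scheme.Modules.pullback f).obj E) i (f ⁻¹ᵁ U.unop))
          (LinearMap.map_smulₛₗ (map i (pullL f E U.unop)) r a)).trans
          (LinearMap.map_smul (toL ((Scheme.Modules.pullback f).obj E) i (f ⁻¹ᵁ U.unop)) _ _) }
  naturality {U V} g := by
    refine ModuleCat.hom_ext (LinearMap.ext fun z => ?_)
    show toL _ i (f ⁻¹ᵁ V.unop) (map i (pullL f E V.unop) (map i (resL E g.unop.le) z)) =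
      (L ((Scheme.Modules.pullback f).obj E) i).val.map (homOfLE (f.preimage_mono g.unop.le)).op
        (toL _ i (f ⁻¹ᵁ U.unop) (map i (pullL f E U.unop) z))
    rw [map_toL]
    refine congrArg _ ?_
    let ρ : Γ(X, U.unop) →+* Γ(X', f ⁻¹ᵁ V.unop) :=
      (X'.presheaf.map (homOfLE (f.preimage_mono g.unop.le)).op).hom.comp (f.app U.unop).hom
    haveI : RingHomCompTriple (f.app U.unop).hom (X'.presheaf.map (homOfLE (f.preimage_mono g.unop.le)).op).hom ρ := ⟨rfl⟩
    haveI : RingHomCompTriple (X.presheaf.map (homOfLE g.unop.le).op).hom (f.app V.unop).hom ρ :=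
      ⟨by
        show _ = (f.app U.unop ≫ X'.presheaf.map _).hom
        rw [← CommRingCat.hom_comp, Scheme.Hom.naturality]
        rfl⟩
    let g₂ : E.val.obj (op U.unop) →ₛₗ[ρ] _ := (resL ((Scheme.Modules.pullback f).obj E)
      (f.preimage_mono g.unop.le)).comp (pullL f E U.unop)
    rw [map_map (resL E g.unop.le) (pullL f E V.unop) g₂ fun m => ?_,
      map_map (pullL f E U.unop) (resL _ (f.preimage_mono g.unop.le)) g₂ fun m => rfl]
    exact congr($(((Scheme.Modules.pullbackPushforwardAdjunction f).unit.app E).mapPresheaf.naturality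
      (homOfLE g.unop.le).op) m)

/-- The comparison morphism. -/
def compHom : (Scheme.Modules.pullback f).obj (L E i) ⟶ L ((Scheme.Modules.pullback f).obj E) i :=
  ((Scheme.Modules.pullbackPushforwardAdjunction f).homEquiv _ _).symm
    (((PresheafOfModules.sheafificationAdjunction (𝟙 X.ringCatSheaf.obj)).homEquiv _ _).symm (pullPre f E i))

theorem compHom_pullSec {U : X.Opens} {W : X'.Opens} (hle : W ≤ f ⁻¹ᵁ U) (z : ↥(⋀[Γ(X, U)]^i (E.val.obj (op U)))) :
    (compHom f E i).app W (QCoh.pullSec f (L E i) hle (toL E i U z)) =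
      toL ((Scheme.Modules.pullback f).obj E) i W
        (map i (resL ((Scheme.Modules.pullback f).obj E) hle) (map i (pullL f E U) z)) := by
  rw [← map_toL]
  show (compHom f E i).app W (((Scheme.Modules.pullback f).obj (L E i)).presheaf.map (homOfLE hle).op
    (show Γ((Scheme.Modules.pullback f).obj (L E i), f ⁻¹ᵁ U) from
      ((Scheme.Modules.pullbackPushforwardAdjunction f).unit.app (L E i)).app U (toL E i U z))) = _
  refine (QCoh.map_app_comm (compHom f E i) (homOfLE hle) _).trans ?_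
  refine congrArg _ ?_
  let χ := ((PresheafOfModules.sheafificationAdjunction (𝟙 X.ringCatSheaf.obj)).homEquiv _ _).symm (pullPre f E i)
  have h1 : (Scheme.Modules.pullbackPushforwardAdjunction f).homEquiv _ _ (compHom f E i) = χ :=
    Equiv.apply_symm_apply _ _
  have h2 : (PresheafOfModules.sheafificationAdjunction (𝟙 X.ringCatSheaf.obj)).homEquiv _ _ χ = pullPre f E i :=
    Equiv.apply_symm_apply _ _
  rw [Adjunction.homEquiv_unit] at h1 h2
  refine Eq.trans ?_ (congr($(congrArg (fun t : pre E i ⟶ _ => t.app (op U)) h2) z))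
  exact congr($(congrArg (fun t => Scheme.Modules.Hom.app t U) h1) (toL E i U z))

/-- Exterior powers commute with inverse images. -/
theorem isIso_compHom (hE : Coh.IsQCoh E) : IsIso (compHom f E i) := by
  have hB : Opens.IsBasis {W : X'.Opens | IsAffineOpen W ∧ ∃ U : X.affineOpens, W ≤ f ⁻¹ᵁ U.1} := by
    refine Opens.isBasis_iff_nbhd.2 fun {V y} hy => ?_
    obtain ⟨U, hU, hyU, -⟩ := exists_isAffineOpen_mem_and_subset (U := ⊤) (x := f y) trivial
    obtain ⟨W, hW, hyW, hWV⟩ := exists_isAffineOpen_mem_and_subset (U := V ⊓ f ⁻¹ᵁ U) (x := y) ⟨hy, hyU⟩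
    exact ⟨W, ⟨hW, ⟨U, hU⟩, fun a ha => (hWV ha).2⟩, hyW, fun a ha => (hWV ha).1⟩
  refine QCoh.isIso_of_isBasis _ hB ?_
  rintro W ⟨hW, ⟨U, hU⟩, hle⟩
  let E' := (Scheme.Modules.pullback f).obj E
  let P := (Scheme.Modules.pullback f).obj (L E i)
  letI : Algebra Γ(X, U) Γ(X', W) := (f.appLE U W hle).hom.toAlgebra
  letI : Module Γ(X, U) Γ(P, W) := Module.compHom _ (algebraMap Γ(X, U) Γ(X', W))
  haveI : IsScalarTower Γ(X, U) Γ(X', W) Γ(P, W) := .of_algebraMap_smul fun _ _ => rfl
  letI : Module Γ(X, U) Γ(E', W) := Module.compHom _ (algebraMap Γ(X, U) Γ(X', W))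
  haveI : IsScalarTower Γ(X, U) Γ(X', W) Γ(E', W) := .of_algebraMap_smul fun _ _ => rfl
  letI : Module Γ(X, U) ↥(⋀[Γ(X', W)]^i Γ(E', W)) := Module.compHom _ (algebraMap Γ(X, U) Γ(X', W))
  haveI : IsScalarTower Γ(X, U) Γ(X', W) ↥(⋀[Γ(X', W)]^i Γ(E', W)) := .of_algebraMap_smul fun _ _ => rfl
  let lE : Γ(E, U) →ₗ[Γ(X, U)] Γ(E', W) :=
    { toFun := QCoh.pullSec f E hle, map_add' := QCoh.pullSec_add f E hle, map_smul' := QCoh.pullSec_smul f E hle }
  let lP : ↥(⋀[Γ(X, U)]^i Γ(E, U)) →ₗ[Γ(X, U)] Γ(P, W) :=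
    { toFun := fun z => QCoh.pullSec f (L E i) hle (toL E i U z)
      map_add' := fun a b => by rw [map_add]; exact QCoh.pullSec_add f (L E i) hle _ _
      map_smul' := fun r a => by rw [map_smul]; exact QCoh.pullSec_smul f (L E i) hle _ _ }
  have hE' := QCoh.isBaseChange_pullback hU f hW hE hle (fun _ => rfl) lE fun _ => rfl
  have hP : IsBaseChange Γ(X', W) lP := by
    let lL : Γ(L E i, U) →ₗ[Γ(X, U)] Γ(P, W) :=
      { toFun := QCoh.pullSec f (L E i) hle, map_add' := QCoh.pullSec_add f (L E i) hle,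
        map_smul' := QCoh.pullSec_smul f (L E i) hle }
    have h := QCoh.isBaseChange_pullback hU f hW (isQCoh E i hE) hle (fun _ => rfl) lL fun _ => rfl
    exact IsBaseChange.comp_equiv (LinearEquiv.ofBijective (toL E i U) (toL_bijective E i hE hU)) lL h
  let F : ↥(⋀[Γ(X, U)]^i Γ(E, U)) →ₗ[Γ(X, U)] ↥(⋀[Γ(X', W)]^i Γ(E', W)) :=
    { toFun := fun z => map i (resL E' hle) (map i (pullL f E U) z)
      map_add' := fun a b => by rw [map_add, map_add]
      map_smul' := fun r a => by
        rw [LinearMap.map_smulₛₗ, LinearMap.map_smulₛₗ]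
        rfl }
  have hF : IsBaseChange Γ(X', W) F := isBaseChange hE' F fun v => by
    refine (congrArg (map i (resL E' hle)) (map_ιMulti (pullL f E U) v)).trans ?_
    refine (map_ιMulti (resL E' hle) _).trans ?_
    rfl
  let c : Γ(P, W) ≃ₗ[Γ(X', W)] ↥(⋀[Γ(X', W)]^i Γ(E', W)) := hP.equiv.symm.trans hF.equiv
  let T := LinearEquiv.ofBijective (toL E' i W) (toL_bijective E' i (QCoh.isQCoh_pullback f hE) hW)
  let C : Γ(P, W) →ₗ[Γ(X', W)] Γ(L E' i, W) :=
    { toFun := (compHom f E i).app W, map_add' := map_add _,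
      map_smul' := fun r a => (compHom f E i).app_smul r a }
  have hC : C = T.toLinearMap ∘ₗ c.toLinearMap := by
    refine hP.algHom_ext _ _ fun z => ?_
    show (compHom f E i).app W (lP z) = T (hF.equiv (hP.equiv.symm (lP z)))
    rw [show hP.equiv.symm (lP z) = 1 ⊗ₜ z from hP.equiv.symm_apply_eq.2 (by rw [hP.equiv_tmul, one_smul]),
      hF.equiv_tmul, one_smul]
    exact compHom_pullSec f E i hle z
  show Function.Bijective C
  rw [hC]
  exact T.bijective.comp c.bijective

/-- The inverse image of an exterior power is an exterior power. -/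
theorem nonempty_pullback_iso (hE : Coh.IsQCoh E) :
    Nonempty ((Scheme.Modules.pullback f).obj (L E i) ≅ L ((Scheme.Modules.pullback f).obj E) i) := by
  haveI := isIso_compHom f E i hE
  exact ⟨asIso (compHom f E i)⟩

end pullback

end Groth.Agent.ExtPowSh
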