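import Mathlib.LinearAlgebra.ExteriorPower.Basis
import Mathlib.LinearAlgebra.TensorProduct.Basic
import Mathlib.RingTheory.OrzechProperty
import Mathlib.RingTheory.Finiteness.Prod
import Mathlib.RingTheory.Finiteness.Basic
import Mathlib.RingTheory.TensorProduct.Finite
import Mathlib.LinearAlgebra.TensorProduct.Pi
import Mathlib.LinearAlgebra.Dimension.Constructions
import Mathlib.Data.Nat.Choose.Vandermonde

/-!
# The filtration of an exterior power by a submodule
-/

set_option linter.unusedSectionVars false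
set_option linter.style.haveILetI false
set_option autoImplicit false

universe u

open scoped TensorProduct
open ExteriorAlgebra

noncomputable section

namespace Groth.Agent.ExtPowSh

variable {R : Type u} [CommRing R] {A B C : Type u} [AddCommGroup A] [Module R A] [AddCommGroup B] [Module R B]
  [AddCommGroup C] [Module R C] (a : A →ₗ[R] B) (b : B →ₗ[R] C) (s : C →ₗ[R] B)

/-- Vectors from a submodule. -/
def deg1 : Submodule R (ExteriorAlgebra R B) := LinearMap.range (ι R ∘ₗ a)

/-- Wedges with `p` factors from the submodule. -/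
def filt (p q : ℕ) : Submodule R (ExteriorAlgebra R B) := deg1 a ^ p * LinearMap.range (ι R (M := B)) ^ q

/-- The next filtration step. -/
def filtNext (p : ℕ) : ℕ → Submodule R (ExteriorAlgebra R B)
  | 0 => ⊥
  | q + 1 => filt a (p + 1) q

theorem deg1_le : deg1 a ≤ LinearMap.range (ι R (M := B)) := LinearMap.range_comp_le_range _ _

theorem filt_succ_le (p q : ℕ) : filt a (p + 1) q ≤ filt a p (q + 1) := by
  rw [filt, filt, pow_succ, pow_succ', mul_assoc]
  exact mul_le_mul' le_rfl (mul_le_mul' (deg1_le a) le_rfl)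

theorem filtNext_le (p q : ℕ) : filtNext a p q ≤ filt a p q := by
  cases q with
  | zero => exact bot_le
  | succ q => exact filt_succ_le a p q

theorem deg1_mul_deg1_le {A' : Type u} [AddCommGroup A'] [Module R A'] (a' : A' →ₗ[R] B) :
    deg1 a' * deg1 a ≤ deg1 a * deg1 a' := by
  refine Submodule.mul_le.2 ?_
  rintro _ ⟨x, rfl⟩ _ ⟨y, rfl⟩
  have h := Submodule.neg_mem _ (Submodule.mul_mem_mul (M := deg1 a) (N := deg1 a') ⟨y, rfl⟩ ⟨x, rfl⟩)
  convert h using 1
  have := ι_add_mul_swap (R := R) (a' x) (a y)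
  exact eq_neg_of_add_eq_zero_left this

theorem deg1_mul_pow_le {A' : Type u} [AddCommGroup A'] [Module R A'] (a' : A' →ₗ[R] B) (p : ℕ) :
    deg1 a' * deg1 a ^ p ≤ deg1 a ^ p * deg1 a' := by
  induction p with
  | zero => simp
  | succ p ih =>
    rw [pow_succ]
    calc deg1 a' * (deg1 a ^ p * deg1 a) = deg1 a' * deg1 a ^ p * deg1 a := (mul_assoc _ _ _).symm
      _ ≤ deg1 a ^ p * deg1 a' * deg1 a := mul_le_mul' ih le_rfl
      _ = deg1 a ^ p * (deg1 a' * deg1 a) := mul_assoc _ _ _
      _ ≤ deg1 a ^ p * (deg1 a * deg1 a') := mul_le_mul' le_rfl (deg1_mul_deg1_le a a')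
      _ = deg1 a ^ p * deg1 a * deg1 a' := (mul_assoc _ _ _).symm

variable (hs : ∀ x : B, ∃ y : A, x - s (b x) = a y)

include hs in
theorem range_ι_le : LinearMap.range (ι R (M := B)) ≤ deg1 a ⊔ deg1 s := by
  rintro _ ⟨x, rfl⟩
  obtain ⟨y, hy⟩ := hs x
  rw [show x = a y + s (b x) by rw [← hy, sub_add_cancel], map_add]
  exact Submodule.add_mem_sup ⟨y, rfl⟩ ⟨b x, rfl⟩

include hs in
theorem range_ι_pow_le (q : ℕ) :
    LinearMap.range (ι R (M := B)) ^ q ≤ deg1 s ^ q ⊔ filtNext a 0 q := by
  induction q with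
  | zero => simp
  | succ q ih =>
    rw [pow_succ']
    refine (mul_le_mul' (range_ι_le a b s hs) le_rfl).trans ?_
    rw [Submodule.sup_mul]
    refine sup_le (le_sup_of_le_right ?_) ((mul_le_mul' le_rfl ih).trans ?_)
    · show deg1 a * _ ≤ filt a 1 q
      rw [filt, pow_one]
    · rw [Submodule.mul_sup, ← pow_succ']
      refine sup_le le_sup_left (le_sup_of_le_right ?_)
      cases q with
      | zero => simp [filtNext]
      | succ q =>
        show deg1 s * (filt a 1 q) ≤ filt a 1 (q + 1)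
        rw [filt, filt, pow_one, ← mul_assoc]
        refine (mul_le_mul' (deg1_mul_deg1_le a s) le_rfl).trans ?_
        rw [mul_assoc]
        refine mul_le_mul' le_rfl ((mul_le_mul' (deg1_le s) le_rfl).trans ?_)
        rw [← pow_succ']

include hs in
theorem filt_le (p q : ℕ) : filt a p q ≤ deg1 a ^ p * deg1 s ^ q ⊔ filtNext a p q := by
  refine (mul_le_mul' le_rfl (range_ι_pow_le a b s hs q)).trans ?_
  rw [Submodule.mul_sup]
  refine sup_le le_sup_left (le_sup_of_le_right ?_)
  cases q with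
  | zero => simp [filtNext]
  | succ q =>
    show deg1 a ^ p * filt a 1 q ≤ filt a (p + 1) q
    rw [filt, filt, pow_one, pow_succ, mul_assoc]

include hs in
theorem sub_map_mem (q : ℕ) {y : ExteriorAlgebra R B} (hy : y ∈ LinearMap.range (ι R (M := B)) ^ q) :
    y - ExteriorAlgebra.map (s ∘ₗ b) y ∈ filtNext a 0 q := by
  induction q generalizing y with
  | zero =>
    rw [pow_zero, Submodule.mem_one] at hy
    obtain ⟨r, rfl⟩ := hy
    rw [AlgHom.commutes, sub_self]
    exact zero_mem _
  | succ q ih =>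
    rw [pow_succ'] at hy
    induction hy using Submodule.mul_induction_on' with
    | mem_mul_mem x hx z hz =>
      obtain ⟨v, rfl⟩ := hx
      obtain ⟨w, hw⟩ := hs v
      rw [map_mul, ExteriorAlgebra.map_apply_ι]
      rw [show ι R v * z - ι R ((s ∘ₗ b) v) * ExteriorAlgebra.map (s ∘ₗ b) z =
        ι R (v - s (b v)) * z + ι R (s (b v)) * (z - ExteriorAlgebra.map (s ∘ₗ b) z) by
          rw [map_sub, sub_mul, mul_sub, LinearMap.comp_apply]; abel, hw]
      show _ ∈ filt a 1 q
      refine add_mem ?_ ?_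
      · rw [filt, pow_one]
        exact Submodule.mul_mem_mul ⟨w, rfl⟩ hz
      · cases q with
        | zero => rw [(Submodule.mem_bot R).1 (ih hz), mul_zero]; exact zero_mem _
        | succ q =>
          have h := Submodule.mul_mem_mul (M := deg1 s) ⟨b v, rfl⟩ (ih hz)
          refine (le_trans ?_ le_rfl : deg1 s * filt a 1 q ≤ filt a 1 (q + 1)) h
          rw [filt, filt, pow_one, ← mul_assoc]
          refine (mul_le_mul' (deg1_mul_deg1_le a s) le_rfl).trans ?_
          rw [mul_assoc]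
          refine mul_le_mul' le_rfl ((mul_le_mul' (deg1_le s) le_rfl).trans ?_)
          rw [← pow_succ']
    | add x z _ _ hx hz =>
      rw [map_add, add_sub_add_comm]
      exact add_mem hx hz

theorem mem_deg1_pow (p : ℕ) : deg1 a ^ p = (⋀[R]^p A).map (ExteriorAlgebra.map a).toLinearMap := by
  show _ = (LinearMap.range (ι R (M := A)) ^ p).map _
  rw [Submodule.map_pow]
  congr 1
  rw [deg1, ← LinearMap.range_comp]
  congr 1
  exact LinearMap.ext fun x => (ExteriorAlgebra.map_apply_ι a x).symm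

theorem map_mem (p : ℕ) (x : ↥(⋀[R]^p A)) :
    ExteriorAlgebra.map a (x : ExteriorAlgebra R A) ∈ deg1 a ^ p := by
  rw [mem_deg1_pow]
  exact ⟨x, x.2, rfl⟩

theorem deg1_pow_le (p : ℕ) : deg1 a ^ p ≤ ⋀[R]^p B := pow_le_pow_left' (deg1_le a) p

/-- The product `⋀^p A × ⋀^q B → ⋀^n B`. -/
def mu {p q n : ℕ} (h : p + q = n) : ↥(⋀[R]^p A) ⊗[R] ↥(⋀[R]^q B) →ₗ[R] ↥(⋀[R]^n B) :=
  LinearMap.codRestrict _
    (LinearMap.mul' R (ExteriorAlgebra R B) ∘ₗ
      TensorProduct.map ((ExteriorAlgebra.map a).toLinearMap ∘ₗ Submodule.subtype _) (Submodule.subtype _))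
    fun z => by
      induction z using TensorProduct.induction_on with
      | zero => simp
      | tmul x y =>
        show ExteriorAlgebra.map a (x : ExteriorAlgebra R A) * (y : ExteriorAlgebra R B) ∈ _
        subst h
        show _ ∈ LinearMap.range (ι R (M := B)) ^ (p + q)
        rw [pow_add]
        exact Submodule.mul_mem_mul (deg1_pow_le a p (map_mem a p x)) y.2
      | add x y hx hy => rw [map_add]; exact add_mem hx hy

theorem coe_mu {p q n : ℕ} (h : p + q = n) (x : ↥(⋀[R]^p A)) (y : ↥(⋀[R]^q B)) :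
    (mu a h (x ⊗ₜ y) : ExteriorAlgebra R B) = ExteriorAlgebra.map a (x : ExteriorAlgebra R A) * y := rfl

theorem mu_ιMulti {p q n : ℕ} (h : p + q = n) (x : Fin p → A) (y : Fin q → B) :
    mu a h (exteriorPower.ιMulti R p x ⊗ₜ exteriorPower.ιMulti R q y) =
      exteriorPower.ιMulti R n (Fin.append (a ∘ x) y ∘ Fin.cast h.symm) := by
  refine Subtype.ext ?_
  subst h
  rw [coe_mu, exteriorPower.ιMulti_apply_coe, exteriorPower.ιMulti_apply_coe, exteriorPower.ιMulti_apply_coe,
    ExteriorAlgebra.map_apply_ιMulti, ιMulti_mul_ιMulti]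
  rfl

theorem range_mu {p q n : ℕ} (h : p + q = n) :
    (LinearMap.range (mu a h)).map (Submodule.subtype _) = filt a p q := by
  refine le_antisymm ?_ (Submodule.mul_le.2 fun x hx y hy => ?_)
  · rintro _ ⟨_, ⟨z, rfl⟩, rfl⟩
    induction z using TensorProduct.induction_on with
    | zero => simp
    | tmul x y =>
      show ExteriorAlgebra.map a (x : ExteriorAlgebra R A) * (y : ExteriorAlgebra R B) ∈ filt a p q
      exact Submodule.mul_mem_mul (map_mem a p x) y.2
    | add x y hx hy => rw [map_add, map_add]; exact add_mem hx hy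
  · rw [mem_deg1_pow] at hx
    obtain ⟨x, hx, rfl⟩ := hx
    exact ⟨_, ⟨(⟨x, hx⟩ : ↥(⋀[R]^p A)) ⊗ₜ (⟨y, hy⟩ : ↥(⋀[R]^q B)), rfl⟩, rfl⟩

/-- The graded piece, mapped by a section. -/
def gradedMap {p q n : ℕ} (h : p + q = n) : ↥(⋀[R]^p A) ⊗[R] ↥(⋀[R]^q C) →ₗ[R] ↥(⋀[R]^n B) :=
  mu a h ∘ₗ TensorProduct.map LinearMap.id (exteriorPower.map q s)

theorem coe_map {q : ℕ} (y : ↥(⋀[R]^q C)) :
    (exteriorPower.map q s y : ExteriorAlgebra R B) = ExteriorAlgebra.map s (y : ExteriorAlgebra R C) := by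
  refine LinearMap.congr_fun (f := Submodule.subtype _ ∘ₗ exteriorPower.map q s)
    (g := (ExteriorAlgebra.map s).toLinearMap ∘ₗ Submodule.subtype _)
    (exteriorPower.linearMap_ext (AlternatingMap.ext fun v => ?_)) y
  show ((exteriorPower.map q s (exteriorPower.ιMulti R q v)) : ExteriorAlgebra R B) =
    ExteriorAlgebra.map s ((exteriorPower.ιMulti R q v : ↥(⋀[R]^q C)) : ExteriorAlgebra R C)
  rw [exteriorPower.map_apply_ιMulti, exteriorPower.ιMulti_apply_coe, exteriorPower.ιMulti_apply_coe,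
    ExteriorAlgebra.map_apply_ιMulti]

theorem le_range_gradedMap {p q n : ℕ} (h : p + q = n) :
    deg1 a ^ p * deg1 s ^ q ≤ (LinearMap.range (gradedMap a s h)).map (Submodule.subtype _) := by
  refine Submodule.mul_le.2 fun x hx y hy => ?_
  rw [mem_deg1_pow] at hx hy
  obtain ⟨x, hx, rfl⟩ := hx
  obtain ⟨y, hy, rfl⟩ := hy
  refine ⟨_, ⟨(⟨x, hx⟩ : ↥(⋀[R]^p A)) ⊗ₜ (⟨y, hy⟩ : ↥(⋀[R]^q C)), rfl⟩, ?_⟩
  show ExteriorAlgebra.map a x * (exteriorPower.map q s ⟨y, hy⟩ : ExteriorAlgebra R B) = _
  rw [coe_map]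
  rfl

/-- All graded pieces at once. -/
def gradedSum (n : ℕ) :
    ((ij : Finset.antidiagonal n) → ↥(⋀[R]^ij.1.1 A) ⊗[R] ↥(⋀[R]^ij.1.2 C)) →ₗ[R] ↥(⋀[R]^n B) :=
  ∑ ij : Finset.antidiagonal n, gradedMap a s (Finset.mem_antidiagonal.1 ij.2) ∘ₗ LinearMap.proj ij

theorem gradedSum_single (n : ℕ) (ij : Finset.antidiagonal n) (z : ↥(⋀[R]^ij.1.1 A) ⊗[R] ↥(⋀[R]^ij.1.2 C)) :
    gradedSum a s n (Pi.single ij z) = gradedMap a s (Finset.mem_antidiagonal.1 ij.2) z := by
  rw [gradedSum, LinearMap.sum_apply, Finset.sum_eq_single ij]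
  · simp
  · intro k _ hk
    simp [Pi.single_eq_of_ne hk]
  · simp

/-- The sums of the pieces from step `p` on. -/
def tail (n p : ℕ) : Submodule R (ExteriorAlgebra R B) :=
  ((⨅ ij ∈ {ij : Finset.antidiagonal n | ij.1.1 < p}, LinearMap.ker (LinearMap.proj (R := R)
    (φ := fun ij : Finset.antidiagonal n => ↥(⋀[R]^ij.1.1 A) ⊗[R] ↥(⋀[R]^ij.1.2 C)) ij)).map
      (gradedSum a s n)).map (Submodule.subtype _)

include hs in
theorem filt_le_tail (p q n : ℕ) (h : p + q = n) : filt a p q ≤ tail a s n p := by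
  induction q generalizing p with
  | zero =>
    refine (filt_le a b s hs p 0).trans (sup_le ?_ bot_le)
    refine (le_range_gradedMap a s h).trans ?_
    rintro _ ⟨_, ⟨z, rfl⟩, rfl⟩
    refine ⟨_, ⟨Pi.single ⟨(p, 0), Finset.mem_antidiagonal.2 h⟩ z, ?_, rfl⟩, ?_⟩
    · simp only [SetLike.mem_coe, Submodule.mem_iInf, LinearMap.mem_ker, LinearMap.proj_apply]
      intro k hk
      exact Pi.single_eq_of_ne (fun e => by subst e; exact lt_irrefl p hk) _
    · rw [gradedSum_single]
  | succ q ih =>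
    refine (filt_le a b s hs p (q + 1)).trans (sup_le ?_ ?_)
    · refine (le_range_gradedMap a s h).trans ?_
      rintro _ ⟨_, ⟨z, rfl⟩, rfl⟩
      refine ⟨_, ⟨Pi.single ⟨(p, q + 1), Finset.mem_antidiagonal.2 h⟩ z, ?_, rfl⟩, ?_⟩
      · simp only [SetLike.mem_coe, Submodule.mem_iInf, LinearMap.mem_ker, LinearMap.proj_apply]
        intro k hk
        exact Pi.single_eq_of_ne (fun e => by subst e; exact lt_irrefl p hk) _
      · rw [gradedSum_single]
    · refine (ih (p + 1) (by omega)).trans (Submodule.map_mono (Submodule.map_mono ?_))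
      exact biInf_mono fun k hk => Nat.lt_succ_of_lt hk

include hs in
theorem gradedSum_surjective (n : ℕ) : Function.Surjective (gradedSum a s n) := fun z => by
  have hz : (z : ExteriorAlgebra R B) ∈ filt a 0 n := by
    rw [filt, pow_zero, one_mul]
    exact z.2
  obtain ⟨_, ⟨f, -, rfl⟩, hf⟩ := filt_le_tail a b s hs 0 n n (zero_add n) hz
  exact ⟨f, Subtype.ext hf⟩

variable [Module.Free R A] [Module.Finite R A] [Module.Free R C] [Module.Finite R C]

/-- A splitting identifies the middle term with the product. -/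
def splitEquiv (hba : ∀ x, b (a x) = 0) (hbs : ∀ z, b (s z) = z) (ha : Function.Injective a) :
    (A × C) ≃ₗ[R] B :=
  LinearEquiv.ofBijective (a.coprod s) (by
    refine ⟨(injective_iff_map_eq_zero _).2 ?_, fun x => ?_⟩
    · rintro ⟨x, z⟩ h
      have hz : z = 0 := by simpa [hba, hbs] using congrArg b (show a x + s z = 0 from h)
      subst hz
      exact Prod.ext (ha (by simpa using h)) rfl
    · obtain ⟨y, hy⟩ := hs x
      exact ⟨(y, b x), show a y + s (b x) = x by rw [← hy, sub_add_cancel]⟩)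

include hs in
theorem gradedSum_injective (hba : ∀ x, b (a x) = 0) (hbs : ∀ z, b (s z) = z) (ha : Function.Injective a) (n : ℕ) :
    Function.Injective (gradedSum a s n) := by
  rcases subsingleton_or_nontrivial R with hR | hR
  · haveI := Module.subsingleton R ((ij : Finset.antidiagonal n) → ↥(⋀[R]^ij.1.1 A) ⊗[R] ↥(⋀[R]^ij.1.2 C))
    exact Function.injective_of_subsingleton _
  let e := splitEquiv a b s hs hba hbs ha
  haveI : Module.Free R B := Module.Free.of_equiv e
  haveI : Module.Finite R B := Module.Finite.equiv e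
  have hB : Module.finrank R B = Module.finrank R A + Module.finrank R C := by
    rw [← e.finrank_eq, Module.finrank_prod]
  have hr : Module.finrank R ((ij : Finset.antidiagonal n) → ↥(⋀[R]^ij.1.1 A) ⊗[R] ↥(⋀[R]^ij.1.2 C)) =
      Module.finrank R ↥(⋀[R]^n B) := by
    rw [Module.finrank_pi_fintype, exteriorPower.finrank_eq, hB, Nat.add_choose_eq,
      Finset.sum_coe_sort (Finset.antidiagonal n)
        (fun ij => Module.finrank R (↥(⋀[R]^ij.1 A) ⊗[R] ↥(⋀[R]^ij.2 C)))]
    exact Finset.sum_congr rfl fun ij _ => by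
      rw [Module.finrank_tensorProduct, exteriorPower.finrank_eq, exteriorPower.finrank_eq]
  let E := LinearEquiv.ofFinrankEq _ _ hr.symm
  have h := OrzechProperty.injective_of_surjective_endomorphism (E.toLinearMap ∘ₗ gradedSum a s n)
    (E.surjective.comp (gradedSum_surjective a b s hs n))
  exact fun x y hxy => h (congrArg E hxy)

include hs in
/-- Graded pieces inject. -/
theorem eq_zero_of_gradedMap_mem (hba : ∀ x, b (a x) = 0) (hbs : ∀ z, b (s z) = z) (ha : Function.Injective a)
    {p q n : ℕ} (h : p + q = n) {z : ↥(⋀[R]^p A) ⊗[R] ↥(⋀[R]^q C)}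
    (hz : (gradedMap a s h z : ExteriorAlgebra R B) ∈ filtNext a p q) : z = 0 := by
  have hinj := gradedSum_injective a b s hs hba hbs ha n
  cases q with
  | zero =>
    have h0 : gradedMap a s h z = 0 := Subtype.ext ((Submodule.mem_bot R).1 hz)
    rw [← gradedSum_single a s n ⟨(p, 0), Finset.mem_antidiagonal.2 h⟩ z, ← map_zero (gradedSum a s n)] at h0
    simpa using congrFun (hinj h0) ⟨(p, 0), Finset.mem_antidiagonal.2 h⟩
  | succ q =>
    obtain ⟨_, ⟨f, hf, rfl⟩, hfz⟩ := filt_le_tail a b s hs (p + 1) q n (by omega) hz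
    simp only [SetLike.mem_coe, Submodule.mem_iInf, LinearMap.mem_ker, LinearMap.proj_apply] at hf
    have h0 : gradedSum a s n (Pi.single ⟨(p, q + 1), Finset.mem_antidiagonal.2 h⟩ z) = gradedSum a s n f := by
      rw [gradedSum_single]
      exact Subtype.ext hfz.symm
    have := congrFun (hinj h0) ⟨(p, q + 1), Finset.mem_antidiagonal.2 h⟩
    rw [Pi.single_eq_same] at this
    rw [this]
    exact hf _ (Nat.lt_succ_self p)

include hs in
/-- What dies in the graded piece lies in the next step. -/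
theorem mu_mem_filtNext {p q n : ℕ} (h : p + q = n) {z : ↥(⋀[R]^p A) ⊗[R] ↥(⋀[R]^q B)}
    (hz : TensorProduct.map LinearMap.id (exteriorPower.map q b) z = 0) :
    (mu a h z : ExteriorAlgebra R B) ∈ filtNext a p q := by
  have h1 : ∀ w : ↥(⋀[R]^p A) ⊗[R] ↥(⋀[R]^q B), (mu a h w : ExteriorAlgebra R B) -
      (gradedMap a s h (TensorProduct.map LinearMap.id (exteriorPower.map q b) w) : ExteriorAlgebra R B)
        ∈ filtNext a p q := fun w => by
    induction w using TensorProduct.induction_on with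
    | zero => simp
    | tmul x y =>
      show ExteriorAlgebra.map a (x : ExteriorAlgebra R A) * (y : ExteriorAlgebra R B) - ExteriorAlgebra.map a (x : ExteriorAlgebra R A) *
        (exteriorPower.map q s (exteriorPower.map q b y) : ExteriorAlgebra R B) ∈ _
      rw [show exteriorPower.map q s (exteriorPower.map q b y) = exteriorPower.map q (s ∘ₗ b) y from
        (LinearMap.congr_fun (exteriorPower.map_comp b s) y).symm, coe_map, ← mul_sub]
      have hy := sub_map_mem a b s hs q y.2
      cases q with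
      | zero => rw [(Submodule.mem_bot R).1 hy, mul_zero]; exact zero_mem _
      | succ q =>
        have := Submodule.mul_mem_mul (map_mem a p x) hy
        refine (le_of_eq ?_ : deg1 a ^ p * filt a 1 q ≤ filt a (p + 1) q) this
        rw [filt, filt, pow_one, pow_succ, mul_assoc]
    | add x y hx hy =>
      simp only [map_add, Submodule.coe_add, add_sub_add_comm]
      exact add_mem hx hy
  simpa [hz] using h1 z

include hs in
/-- The graded piece generates. -/
theorem exists_gradedMap_sub_mem {p q n : ℕ} (h : p + q = n) {w : ↥(⋀[R]^n B)}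
    (hw : (w : ExteriorAlgebra R B) ∈ filt a p q) :
    ∃ z, (w : ExteriorAlgebra R B) - (gradedMap a s h z : ExteriorAlgebra R B) ∈ filtNext a p q := by
  obtain ⟨y, hy, u, hu, hw'⟩ := Submodule.mem_sup.1 (filt_le a b s hs p q hw)
  obtain ⟨_, ⟨z, rfl⟩, rfl⟩ := le_range_gradedMap a s h hy
  refine ⟨z, ?_⟩
  rw [← hw', Submodule.coe_subtype, add_sub_cancel_left]
  exact hu

end Groth.Agent.ExtPowSh
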