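import Groth.Agent.ExtPowSh.Loc
import Groth.Agent.ExtPowSh.FiltAlg
import Groth.Agent.QCoh.TensorSections
import Groth.Agent.QCoh.Extension
import Groth.Agent.QCoh.Tilde
import Groth.Agent.QCoh.Support
import Groth.Agent.RelTildeX.SheafCrit

/-!
# Maps out of tensor products of exterior powers
-/

set_option linter.style.haveILetI false
set_option linter.unusedSectionVars false
set_option backward.isDefEq.respectTransparency false
set_option backward.isDefEq.respectTransparency.types false
set_option maxHeartbeats 1000000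
set_option autoImplicit false

universe u

open CategoryTheory CategoryTheory.Limits AlgebraicGeometry TopologicalSpace Opposite
open scoped TensorProduct

noncomputable section

namespace Groth.Agent.ExtPowSh

variable {X : Scheme.{u}}

/-- A morphism on sections. -/
def appL {M N : X.Modules} (f : M ⟶ N) (U : X.Opens) : M.val.obj (op U) →ₗ[Γ(X, U)] N.val.obj (op U) where
  toFun s := f.app U s
  map_add' a b := map_add _ a b
  map_smul' r a := f.app_smul r a

theorem map_appL {M N : X.Modules} (f : M ⟶ N) {U V : X.Opens} (h : V ≤ U) (s : M.val.obj (op U)) :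
    N.val.map (homOfLE h).op (appL f U s) = appL f V (M.val.map (homOfLE h).op s) :=
  (congr($(f.mapPresheaf.naturality (homOfLE h).op) s)).symm

theorem hom_eq_zero_of_isBasis {M N : X.Modules} (f : M ⟶ N) {B : Set X.Opens} (hB : Opens.IsBasis B)
    (h : ∀ U ∈ B, ∀ s, appL f U s = 0) : f = 0 := by
  refine Scheme.Modules.hom_ext _ _ fun U => AddCommGrpCat.ext fun s => ?_
  refine QCoh.eq_zero_of_locally (M := N) U _ fun p hp => ?_
  obtain ⟨V, hV, hpV, hle⟩ := Opens.isBasis_iff_nbhd.1 hB hp
  refine ⟨V, homOfLE hle, hpV, ?_⟩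
  exact (map_appL f hle s).trans (h V hV _)

/-- A section killed by a cokernel comes from the source. -/
theorem exists_app_eq_of_cokernel {A B : X.Modules} (α : A ⟶ B) (hA : Coh.IsQCoh A) (hB : Coh.IsQCoh B)
    {U : X.Opens} (hU : IsAffineOpen U) (z : B.val.obj (op U)) (hz : appL (cokernel.π α) U z = 0) :
    ∃ a, appL α U a = z := by
  let S := ShortComplex.mk (kernel.ι (cokernel.π α)) (cokernel.π α) (kernel.condition _)
  have hS : S.ShortExact :=
    { exact := ShortComplex.exact_kernel _, mono_f := inferInstance, epi_g := inferInstance }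
  obtain ⟨k, hk⟩ := QCoh.exists_app_f_eq hS U z hz
  haveI : Epi (kernel.lift (cokernel.π α) α (cokernel.condition α)) :=
    (ShortComplex.exact_iff_epi_kernel_lift (ShortComplex.mk α (cokernel.π α) (cokernel.condition α))).1
      (ShortComplex.exact_cokernel α)
  have hK := QCoh.isQCoh_kernel hB (QCoh.isQCoh_cokernel hA hB α) (cokernel.π α)
  obtain ⟨a, ha⟩ := QCoh.app_surjective_of_epi hA hK (kernel.lift (cokernel.π α) α (cokernel.condition α)) hU k
  refine ⟨a, ?_⟩
  have h := congrArg (fun t : A ⟶ B => appL t U a) (kernel.lift_ι (cokernel.π α) α (cokernel.condition α))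
  refine h.symm.trans ?_
  show (kernel.ι (cokernel.π α)).app U ((kernel.lift (cokernel.π α) α (cokernel.condition α)).app U a) = z
  rw [ha]
  exact hk

/-- The tensor product of two modules. -/
abbrev tens (M N : X.Modules) : X.Modules := (DCoh.tensorBi.obj M).obj N

/-- Semilinear maps out of a tensor product of exterior powers agree once they agree on wedges. -/
theorem hom_ext_tens {R S : Type u} [CommRing R] [CommRing S] {f : R →+* S} {M N P : Type u} [AddCommGroup M]
    [Module R M] [AddCommGroup N] [Module R N] [AddCommGroup P] [Module S P] {p q : ℕ}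
    {φ ψ : ↥(⋀[R]^p M) ⊗[R] ↥(⋀[R]^q N) →ₛₗ[f] P}
    (h : ∀ x y, φ (exteriorPower.ιMulti R p x ⊗ₜ exteriorPower.ιMulti R q y) =
      ψ (exteriorPower.ιMulti R p x ⊗ₜ exteriorPower.ιMulti R q y)) : φ = ψ := by
  refine LinearMap.ext fun z => ?_
  induction z using TensorProduct.induction_on with
  | zero => simp only [map_zero]
  | add a b ha hb => simp only [map_add, ha, hb]
  | tmul a b =>
    have ha : a ∈ Submodule.span R (Set.range (exteriorPower.ιMulti R p (M := M))) := by
      rw [exteriorPower.ιMulti_span]; trivial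
    induction ha using Submodule.span_induction with
    | zero => simp only [TensorProduct.zero_tmul, map_zero]
    | add a a' _ _ h1 h2 => simp only [TensorProduct.add_tmul, map_add, h1, h2]
    | smul r a _ h1 => rw [← TensorProduct.smul_tmul', LinearMap.map_smulₛₗ, LinearMap.map_smulₛₗ, h1]
    | mem a ha =>
      obtain ⟨x, rfl⟩ := ha
      have hb : b ∈ Submodule.span R (Set.range (exteriorPower.ιMulti R q (M := N))) := by
        rw [exteriorPower.ιMulti_span]; trivial
      induction hb using Submodule.span_induction with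
      | zero => simp only [TensorProduct.tmul_zero, map_zero]
      | add b b' _ _ h1 h2 => simp only [TensorProduct.tmul_add, map_add, h1, h2]
      | smul r b _ h1 => rw [TensorProduct.tmul_smul, LinearMap.map_smulₛₗ, LinearMap.map_smulₛₗ, h1]
      | mem b hb =>
        obtain ⟨y, rfl⟩ := hb
        exact h x y

variable (A B : X.Modules) (p q : ℕ)

/-- Tensors of wedges, as sections of the tensor product. -/
def tau (U : X.Opens) :
    ↥(⋀[Γ(X, U)]^p (A.val.obj (op U))) ⊗[Γ(X, U)] ↥(⋀[Γ(X, U)]^q (B.val.obj (op U))) →ₗ[Γ(X, U)]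
      (tens (L A p) (L B q)).val.obj (op U) :=
  QCoh.tmLin (L A p) (L B q) U ∘ₗ TensorProduct.map (toL A p U) (toL B q U)

theorem tau_bijective (hA : Coh.IsQCoh A) (hB : Coh.IsQCoh B) {U : X.Opens} (hU : IsAffineOpen U) :
    Function.Bijective (tau A B p q U) := by
  let e := TensorProduct.congr (LinearEquiv.ofBijective (toL A p U) (toL_bijective A p hA hU))
    (LinearEquiv.ofBijective (toL B q U) (toL_bijective B q hB hU))
  exact (QCoh.bijective_tmLin (isQCoh A p hA) (isQCoh B q hB) hU).comp e.bijective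

theorem map_tau {U V : X.Opens} (h : V ≤ U) (x : Fin p → A.val.obj (op U)) (y : Fin q → B.val.obj (op U)) :
    (tens (L A p) (L B q)).val.map (homOfLE h).op
        (tau A B p q U (exteriorPower.ιMulti _ p x ⊗ₜ exteriorPower.ιMulti _ q y)) =
      tau A B p q V (exteriorPower.ιMulti _ p (fun j => A.val.map (homOfLE h).op (x j)) ⊗ₜ
        exteriorPower.ιMulti _ q (fun j => B.val.map (homOfLE h).op (y j))) := by
  refine (QCoh.map_tmS (L A p) (L B q) (homOfLE h) _ _).trans ?_
  refine congrArg₂ (QCoh.tmS (L A p) (L B q)) ?_ ?_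
  · exact (map_toL A p h _).trans (congrArg _ (map_ιMulti _ _))
  · exact (map_toL B q h _).trans (congrArg _ (map_ιMulti _ _))

/-- A morphism out of a tensor product of exterior powers, from linear maps on affine opens. -/
theorem exists_hom_tens (hA : Coh.IsQCoh A) (hB : Coh.IsQCoh B) {T : X.Modules}
    (φ : ∀ U : X.affineOpens,
      ↥(⋀[Γ(X, U.1)]^p (A.val.obj (op U.1))) ⊗[Γ(X, U.1)] ↥(⋀[Γ(X, U.1)]^q (B.val.obj (op U.1))) →ₗ[Γ(X, U.1)]
        T.val.obj (op U.1))
    (hφ : ∀ (U V : X.affineOpens) (h : V.1 ≤ U.1) (x : Fin p → A.val.obj (op U.1))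
      (y : Fin q → B.val.obj (op U.1)),
      T.val.map (homOfLE h).op (φ U (exteriorPower.ιMulti _ p x ⊗ₜ exteriorPower.ιMulti _ q y)) =
        φ V (exteriorPower.ιMulti _ p (fun j => A.val.map (homOfLE h).op (x j)) ⊗ₜ
          exteriorPower.ιMulti _ q (fun j => B.val.map (homOfLE h).op (y j)))) :
    ∃ ψ : tens (L A p) (L B q) ⟶ T, ∀ (U : X.affineOpens) z, appL ψ U.1 (tau A B p q U.1 z) = φ U z := by
  let e := fun U : X.affineOpens => LinearEquiv.ofBijective (tau A B p q U.1) (tau_bijective A B p q hA hB U.2)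
  obtain ⟨ψ, hψ⟩ := exists_hom_of_affine (M := tens (L A p) (L B q)) (N := T)
    (fun U => φ U ∘ₗ (e U).symm.toLinearMap) fun U V h z => by
      obtain ⟨w, rfl⟩ := (e U).surjective z
      show T.val.map (homOfLE h).op (φ U ((e U).symm (e U w))) = φ V ((e V).symm _)
      rw [LinearEquiv.symm_apply_apply]
      let G₁ : ↥(⋀[Γ(X, U.1)]^p (A.val.obj (op U.1))) ⊗[Γ(X, U.1)] ↥(⋀[Γ(X, U.1)]^q (B.val.obj (op U.1)))
          →ₛₗ[(X.presheaf.map (homOfLE h).op).hom] T.val.obj (op V.1) := (resL T h).comp (φ U)
      let G₂ : ↥(⋀[Γ(X, U.1)]^p (A.val.obj (op U.1))) ⊗[Γ(X, U.1)] ↥(⋀[Γ(X, U.1)]^q (B.val.obj (op U.1)))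
          →ₛₗ[(X.presheaf.map (homOfLE h).op).hom] T.val.obj (op V.1) :=
        (φ V ∘ₗ (e V).symm.toLinearMap).comp ((resL (tens (L A p) (L B q)) h).comp (e U).toLinearMap)
      show G₁ w = G₂ w
      refine LinearMap.congr_fun (hom_ext_tens fun x y => ?_) w
      refine (hφ U V h x y).trans (congrArg (φ V) ?_)
      exact (LinearEquiv.eq_symm_apply _).2 (map_tau A B p q h x y).symm
  refine ⟨ψ, fun U z => (hψ U _).trans ?_⟩
  exact congrArg (φ U) ((e U).symm_apply_apply z)

end Groth.Agent.ExtPowSh
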