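import Groth.Agent.ExtPowSh.Loc

/-!
# Exterior powers: invariance under isomorphisms
-/

set_option linter.style.haveILetI false
set_option backward.isDefEq.respectTransparency false
set_option backward.isDefEq.respectTransparency.types false
set_option maxHeartbeats 1000000
set_option autoImplicit false

universe u

open CategoryTheory CategoryTheory.Limits AlgebraicGeometry TopologicalSpace Opposite

noncomputable section

namespace Groth.Agent.ExtPowSh

variable {X : Scheme.{u}} {i : ℕ}

/-- An isomorphism of modules on sections. -/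
def appEquiv {E E' : X.Modules} (e : E ≅ E') (U : X.Opens) :
    E.val.obj (op U) ≃ₗ[Γ(X, U)] E'.val.obj (op U) where
  toFun s := e.hom.app U s
  map_add' a b := map_add _ a b
  map_smul' r a := e.hom.app_smul r a
  invFun s := e.inv.app U s
  left_inv s := congr($(congrArg (fun t : E ⟶ E => Scheme.Modules.Hom.app t U) e.hom_inv_id) s)
  right_inv s := congr($(congrArg (fun t : E' ⟶ E' => Scheme.Modules.Hom.app t U) e.inv_hom_id) s)

theorem map_appEquiv {E E' : X.Modules} (e : E ≅ E') {U V : X.Opens} (h : V ≤ U) (s : E.val.obj (op U)) :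
    E'.val.map (homOfLE h).op (appEquiv e U s) = appEquiv e V (E.val.map (homOfLE h).op s) :=
  (congr($(e.hom.mapPresheaf.naturality (homOfLE h).op) s)).symm

/-- A module isomorphic to an exterior power is an exterior power. -/
theorem isExtPow_of_iso {E L₁ L₂ : X.Modules} (e : L₁ ≅ L₂) (h : ExtPow.IsExtPow i E L₁) :
    ExtPow.IsExtPow i E L₂ := by
  obtain ⟨φ, hφ⟩ := h
  refine ⟨fun U => (appEquiv e U.1).symm.trans (φ U), fun U V h v => ?_⟩
  show L₂.val.map (homOfLE h).op (appEquiv e U.1 ((φ U).symm _)) = appEquiv e V.1 ((φ V).symm _)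
  exact (map_appEquiv e h _).trans (congrArg _ (hφ U V h v))

/-- Exterior powers of isomorphic modules. -/
theorem isExtPow_source_iso {E E' L' : X.Modules} (e : E ≅ E') (h : ExtPow.IsExtPow i E L') :
    ExtPow.IsExtPow i E' L' := by
  obtain ⟨φ, hφ⟩ := h
  let ψ : ∀ U : X.affineOpens, ↥(⋀[Γ(X, U.1)]^i (E.val.obj (op U.1))) ≃ₗ[Γ(X, U.1)]
      ↥(⋀[Γ(X, U.1)]^i (E'.val.obj (op U.1))) := fun U =>
    { exteriorPower.map i (appEquiv e U.1).toLinearMap with
      invFun := exteriorPower.map i (appEquiv e U.1).symm.toLinearMap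
      left_inv := LinearMap.congr_fun (f := exteriorPower.map i (appEquiv e U.1).symm.toLinearMap ∘ₗ
          exteriorPower.map i (appEquiv e U.1).toLinearMap) (g := LinearMap.id) (by
        rw [← exteriorPower.map_comp, LinearEquiv.comp_coe, LinearEquiv.self_trans_symm,
          LinearEquiv.refl_toLinearMap, exteriorPower.map_id])
      right_inv := LinearMap.congr_fun (f := exteriorPower.map i (appEquiv e U.1).toLinearMap ∘ₗ
          exteriorPower.map i (appEquiv e U.1).symm.toLinearMap) (g := LinearMap.id) (by
        rw [← exteriorPower.map_comp, LinearEquiv.comp_coe, LinearEquiv.symm_trans_self,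
          LinearEquiv.refl_toLinearMap, exteriorPower.map_id]) }
  refine ⟨fun U => (φ U).trans (ψ U), fun U V h v => ?_⟩
  show L'.val.map (homOfLE h).op ((φ U).symm (exteriorPower.map i (appEquiv e U.1).symm.toLinearMap _)) =
    (φ V).symm (exteriorPower.map i (appEquiv e V.1).symm.toLinearMap _)
  rw [exteriorPower.map_apply_ιMulti, exteriorPower.map_apply_ιMulti]
  refine (hφ U V h _).trans (congrArg _ (congrArg _ (funext fun j => ?_)))
  exact map_appEquiv e.symm h (v j)

/-- The inverse image of an exterior power is an exterior power. -/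
theorem isExtPow_pullback {X' : Scheme.{u}} (f : X' ⟶ X) {E L' : X.Modules} (hE : Coh.IsQCoh E)
    (h : ExtPow.IsExtPow i E L') :
    ExtPow.IsExtPow i ((Scheme.Modules.pullback f).obj E) ((Scheme.Modules.pullback f).obj L') := by
  obtain ⟨e⟩ := nonempty_iso (isExtPow E i hE) h
  obtain ⟨c⟩ := nonempty_pullback_iso f E i hE
  exact isExtPow_of_iso (c.symm ≪≫ (Scheme.Modules.pullback f).mapIso e)
    (isExtPow _ i (QCoh.isQCoh_pullback f hE))

end Groth.Agent.ExtPowSh
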