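import Groth.Agent.ExtPowSh.Functor
import Groth.Agent.ExtPowSh.Iso
import Groth.Agent.LimMod.Glue
import Groth.Agent.InvX.Tensor
import Groth.Agent.H23.PicMul
import Groth.Agent.ProjUPX.Affine

/-!
# Exterior powers of line twists
-/

set_option linter.style.haveILetI false
set_option linter.unusedSectionVars false
set_option backward.isDefEq.respectTransparency false
set_option backward.isDefEq.respectTransparency.types false
set_option maxHeartbeats 1000000
set_option autoImplicit false

universe u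

open CategoryTheory CategoryTheory.Limits AlgebraicGeometry TopologicalSpace Opposite
open scoped TensorProduct

noncomputable section

namespace Groth.Agent.ExtPowSh

variable {X : Scheme.{u}}

/-- A section freely spanning the sections over `U`. -/
def IsGen (M : X.Modules) (U : X.Opens) (t : M.val.obj (op U)) : Prop :=
  Function.Bijective fun r : Γ(X, U) => r • t

/-- Multiplication by a section. -/
def twistLin (M N : X.Modules) (U : X.Opens) (t : N.val.obj (op U)) :
    M.val.obj (op U) →ₗ[Γ(X, U)] (tens M N).val.obj (op U) where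
  toFun s := QCoh.tmS M N s t
  map_add' a b := QCoh.tmS_add_left M N a b t
  map_smul' r a := QCoh.tmS_smul_left M N r a t

theorem twistLin_bijective {M N : X.Modules} (hM : Coh.IsQCoh M) (hN : Coh.IsQCoh N) {U : X.Opens}
    (hU : IsAffineOpen U) {t : N.val.obj (op U)} (ht : IsGen N U t) : Function.Bijective (twistLin M N U t) := by
  let e : Γ(X, U) ≃ₗ[Γ(X, U)] N.val.obj (op U) :=
    LinearEquiv.ofBijective (LinearMap.toSpanSingleton Γ(X, U) _ t) ht
  let a : M.val.obj (op U) ≃ₗ[Γ(X, U)] M.val.obj (op U) ⊗[Γ(X, U)] N.val.obj (op U) :=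
    (TensorProduct.rid Γ(X, U) _).symm.trans (TensorProduct.congr (LinearEquiv.refl _ _) e)
  have h : ⇑(twistLin M N U t) = ⇑(QCoh.tmLin M N U) ∘ ⇑a := funext fun s => by
    show QCoh.tmS M N s t = QCoh.tmS M N s ((1 : Γ(X, U)) • t)
    rw [one_smul]
  rw [h]
  exact (QCoh.bijective_tmLin hM hN hU).comp a.bijective

variable (L' : X.Modules)

/-- The powers of a section. -/
def pw (U : X.Opens) (t : L'.val.obj (op U)) : ∀ k : ℕ, (CohB1.tensorPow L' k).val.obj (op U)
  | 0 => (1 : Γ(X, U))
  | k + 1 => QCoh.tmS (CohB1.tensorPow L' k) L' (pw U t k) t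

theorem map_pw {U V : X.Opens} (h : V ≤ U) (t : L'.val.obj (op U)) :
    ∀ k : ℕ, (CohB1.tensorPow L' k).val.map (homOfLE h).op (pw L' U t k) =
      pw L' V (L'.val.map (homOfLE h).op t) k
  | 0 => map_one (X.presheaf.map (homOfLE h).op).hom
  | k + 1 => (QCoh.map_tmS (CohB1.tensorPow L' k) L' (homOfLE h) _ _).trans
      (congrArg (fun z => QCoh.tmS (CohB1.tensorPow L' k) L' z (L'.val.map (homOfLE h).op t)) (map_pw h t k))

theorem pw_smul {U : X.Opens} (r : Γ(X, U)) (t : L'.val.obj (op U)) :
    ∀ k : ℕ, pw L' U (r • t) k = r ^ k • pw L' U t k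
  | 0 => by rw [pow_zero, one_smul]; rfl
  | k + 1 => by
    show QCoh.tmS _ L' (pw L' U (r • t) k) (r • t) = _
    rw [pw_smul r t k]
    refine (QCoh.tmS_smul_left _ L' _ _ _).trans ?_
    refine (congrArg (fun z => r ^ k • z) (QCoh.tmS_smul_right (CohB1.tensorPow L' k) L' r _ t)).trans ?_
    rw [smul_smul, ← pow_succ]
    rfl

theorem isQCoh_tensorPow {L : X.Modules} (hL : PicF.IsInvertible L) (k : ℕ) :
    Coh.IsQCoh (CohB1.tensorPow L k) :=
  ProjUPX.isQCoh_of_isInvertible (H23.PicMul.isInvertible_tensorPow hL k)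

theorem isGen_pw {L : X.Modules} (hL : PicF.IsInvertible L) {U : X.Opens} (hU : IsAffineOpen U)
    {t : L.val.obj (op U)} (ht : IsGen L U t) : ∀ k : ℕ, IsGen (CohB1.tensorPow L k) U (pw L U t k)
  | 0 => by
    show Function.Bijective fun r : Γ(X, U) => (r * 1 : Γ(X, U))
    simp only [mul_one]
    exact Function.bijective_id
  | k + 1 => by
    have h := (twistLin_bijective (isQCoh_tensorPow hL k) (ProjUPX.isQCoh_of_isInvertible hL) hU ht).comp
      (isGen_pw hL hU ht k)
    have e : ∀ r : Γ(X, U), twistLin (CohB1.tensorPow L k) L U t (r • pw L U t k) = r • pw L U t (k + 1) :=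
      fun r => LinearMap.map_smul (twistLin (CohB1.tensorPow L k) L U t) r _
    exact ⟨fun a b hab => h.1 ((e a).trans (hab.trans (e b).symm)),
      fun z => (h.2 z).imp fun r hr => (e r).symm.trans hr⟩

variable {L'} (E : X.Modules) {L : X.Modules} (k : ℕ)

/-- The opens where `L` is free. -/
def Triv (L : X.Modules) (U : X.Opens) : Prop :=
  IsAffineOpen U ∧ ∃ t : L.val.obj (op U), IsGen L U t

theorem exists_triv (hL : PicF.IsInvertible L) (V : X.Opens) (x : X) (hx : x ∈ V) :
    ∃ W : X.Opens, Triv L W ∧ x ∈ W ∧ W ≤ V := by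
  obtain ⟨U, hxU, e, he⟩ := InvX.exists_frame hL x
  obtain ⟨W, hW, hxW, hle⟩ := exists_isAffineOpen_mem_and_subset (U := U ⊓ V) (x := x) ⟨hxU, hx⟩
  exact ⟨W, ⟨hW, _, he W fun y hy => (hle hy).1⟩, hxW, fun y hy => (hle hy).2⟩

/-- Exterior powers of line twists. -/
theorem nonempty_twist_iso (hE : Coh.IsQCoh E) (hL : PicF.IsInvertible L) :
    Nonempty (ExtPowSh.L (tens E L) k ≅ tens (ExtPowSh.L E k) (CohB1.tensorPow L k)) := by
  have hLq : Coh.IsQCoh L := ProjUPX.isQCoh_of_isInvertible hL
  have hT : Coh.IsQCoh (tens E L) := KFlatLib.isQCoh_tensor hE hLq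
  have key : ∀ (U : X.Opens), Triv L U → ∃ F : (ExtPowSh.L (tens E L) k).val.obj (op U) →ₗ[Γ(X, U)]
      (tens (ExtPowSh.L E k) (CohB1.tensorPow L k)).val.obj (op U), Function.Bijective F ∧
        ∀ (e : Fin k → E.val.obj (op U)) (t' : L.val.obj (op U)),
          F (toL (tens E L) k U (exteriorPower.ιMulti _ k fun j => QCoh.tmS E L (e j) t')) =
            QCoh.tmS (ExtPowSh.L E k) (CohB1.tensorPow L k) (toL E k U (exteriorPower.ιMulti _ k e)) (pw L U t' k) := by
    rintro U ⟨hU, t, ht⟩
    let a := LinearEquiv.ofBijective (twistLin E L U t) (twistLin_bijective hE hLq hU ht)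
    let T := LinearEquiv.ofBijective (toL (tens E L) k U) (toL_bijective _ k hT hU)
    let G : ↥(⋀[Γ(X, U)]^k ((tens E L).val.obj (op U))) →ₗ[Γ(X, U)]
        (tens (ExtPowSh.L E k) (CohB1.tensorPow L k)).val.obj (op U) :=
      (twistLin (ExtPowSh.L E k) (CohB1.tensorPow L k) U (pw L U t k)) ∘ₗ (toL E k U) ∘ₗ
        exteriorPower.map k a.symm.toLinearMap
    have hG : Function.Bijective G := by
      refine (twistLin_bijective (isQCoh E k hE) (isQCoh_tensorPow hL k) hU (isGen_pw hL hU ht k)).comp
        ((toL_bijective E k hE hU).comp ?_)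
      refine Function.bijective_iff_has_inverse.2 ⟨exteriorPower.map k a.toLinearMap, fun z => ?_, fun z => ?_⟩
      · exact LinearMap.congr_fun (f := exteriorPower.map k a.toLinearMap ∘ₗ exteriorPower.map k a.symm.toLinearMap)
          (g := LinearMap.id) (by
            rw [← exteriorPower.map_comp, LinearEquiv.comp_coe, LinearEquiv.symm_trans_self,
              LinearEquiv.refl_toLinearMap, exteriorPower.map_id]) z
      · exact LinearMap.congr_fun (f := exteriorPower.map k a.symm.toLinearMap ∘ₗ exteriorPower.map k a.toLinearMap)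
          (g := LinearMap.id) (by
            rw [← exteriorPower.map_comp, LinearEquiv.comp_coe, LinearEquiv.self_trans_symm,
              LinearEquiv.refl_toLinearMap, exteriorPower.map_id]) z
    refine ⟨G ∘ₗ T.symm.toLinearMap, hG.comp T.symm.bijective, fun e t' => ?_⟩
    obtain ⟨r, rfl⟩ := ht.2 t'
    show G (T.symm (T _)) = _
    rw [T.symm_apply_apply]
    show twistLin _ _ U _ (toL E k U (exteriorPower.map k a.symm.toLinearMap _)) = _
    rw [exteriorPower.map_apply_ιMulti]
    have hv : (a.symm.toLinearMap ∘ fun j => QCoh.tmS E L (e j) (r • t)) = fun j => r • e j := funext fun j => by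
      refine a.symm_apply_eq.2 ?_
      exact (QCoh.tmS_smul_right E L r (e j) t).trans (QCoh.tmS_smul_left E L r (e j) t).symm
    rw [hv, AlternatingMap.map_smul_univ, Finset.prod_const, Finset.card_univ, Fintype.card_fin, pw_smul]
    refine (congrArg (twistLin _ _ U _) (LinearMap.map_smul (toL E k U) _ _)).trans ?_
    refine (LinearMap.map_smul (twistLin _ _ U _) _ _).trans ?_
    exact (QCoh.tmS_smul_right (ExtPowSh.L E k) (CohB1.tensorPow L k) _ _ _).symm
  choose F hF hFf using key
  have hnat : ∀ (U W : X.Opens) (hU : Triv L U) (hW : Triv L W) (h : W ≤ U)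
      (s : Γ(ExtPowSh.L (tens E L) k, U)),
      (tens (ExtPowSh.L E k) (CohB1.tensorPow L k)).presheaf.map (homOfLE h).op (F U hU s) =
        F W hW ((ExtPowSh.L (tens E L) k).presheaf.map (homOfLE h).op s) := by
    intro U W hU hW h s
    obtain ⟨hUa, t, ht⟩ := id hU
    obtain ⟨z, rfl⟩ := toL_surjective (tens E L) k hT hUa s
    let M₂ := tens (ExtPowSh.L E k) (CohB1.tensorPow L k)
    show ((resL M₂ h).comp ((F U hU) ∘ₗ toL (tens E L) k U)) z =
      ((F W hW).comp ((resL (ExtPowSh.L (tens E L) k) h).comp (toL (tens E L) k U))) z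
    refine LinearMap.congr_fun (hom_ext fun v => ?_) z
    choose e he using fun j => (twistLin_bijective hE hLq hUa ht).2 (v j)
    obtain rfl : (fun j => QCoh.tmS E L (e j) t) = v := funext he
    show resL M₂ h (F U hU (toL (tens E L) k U (exteriorPower.ιMulti _ k _))) =
      F W hW ((ExtPowSh.L (tens E L) k).val.map (homOfLE h).op (toL (tens E L) k U (exteriorPower.ιMulti _ k _)))
    rw [hFf]
    refine Eq.trans ?_ (congrArg (F W hW) ((congrArg (toL (tens E L) k W)
      ((congrArg (exteriorPower.ιMulti Γ(X, W) k) (funext fun j =>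
        (QCoh.map_tmS E L (homOfLE h) (e j) t).symm)).trans
          (map_ιMulti (resL (tens E L) h) _).symm)).trans (map_toL (tens E L) k h _).symm))
    refine Eq.trans ?_ (hFf W hW _ _).symm
    refine (QCoh.map_tmS (ExtPowSh.L E k) (CohB1.tensorPow L k) (homOfLE h) _ _).trans ?_
    refine congrArg₂ (QCoh.tmS _ _) ?_ (map_pw L h t k)
    exact (map_toL E k h _).trans (congrArg _ (map_ιMulti _ _))
  obtain ⟨ψ, hψ⟩ := LimMod.exists_hom_of_basis (M := ExtPowSh.L (tens E L) k)
    (N := tens (ExtPowSh.L E k) (CohB1.tensorPow L k)) (Triv L) (exists_triv hL)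
    (fun U hU => (F U hU).toAddMonoidHom) hnat (fun U hU r s => (F U hU).map_smul r s)
  have hB : Opens.IsBasis {U : X.Opens | Triv L U} :=
    Opens.isBasis_iff_nbhd.2 fun {V x} hx => exists_triv hL V x hx
  haveI : IsIso ψ := QCoh.isIso_of_isBasis ψ hB fun U hU => by
    have hf : ⇑(ψ.app U) = ⇑(F U hU) := funext fun s => hψ U hU s
    rw [hf]
    exact hF U hU
  exact ⟨asIso ψ⟩

end Groth.Agent.ExtPowSh
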