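import Mathlib.Algebra.Category.ModuleCat.ChangeOfRings
import Mathlib.RingTheory.Localization.BaseChange
import Groth.Agent.Synt29.ExtBC

/-!
# Exterior powers along semilinear maps
-/

set_option linter.style.haveILetI false
set_option backward.isDefEq.respectTransparency false
set_option backward.isDefEq.respectTransparency.types false
set_option autoImplicit false

universe u

open scoped TensorProduct

noncomputable section

namespace Groth.Agent.ExtPowSh

variable {R S : Type u} [CommRing R] [CommRing S] {f : R →+* S}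
  {M N : Type u} [AddCommGroup M] [Module R M] [AddCommGroup N] [Module S N] {i : ℕ}

/-- `⋀^i N`, with scalars restricted. -/
def Res (f : R →+* S) (N : Type u) [AddCommGroup N] [Module S N] (i : ℕ) : Type u :=
  ↥(⋀[S]^i N)

instance : AddCommGroup (Res f N i) := inferInstanceAs (AddCommGroup ↥(⋀[S]^i N))

instance : Module R (Res f N i) := Module.compHom (↥(⋀[S]^i N)) f

/-- The identity. -/
def Res.mk (x : ↥(⋀[S]^i N)) : Res f N i := x

/-- The identity. -/
def Res.val (x : Res f N i) : ↥(⋀[S]^i N) := x

theorem Res.val_smul (r : R) (x : Res f N i) : Res.val (r • x) = f r • Res.val x := rfl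

theorem Res.ext {x y : Res f N i} (h : Res.val x = Res.val y) : x = y := h

/-- The alternating map attached to a semilinear map. -/
def semiAlt (i : ℕ) (g : M →ₛₗ[f] N) : M [⋀^Fin i]→ₗ[R] Res f N i where
  toFun v := Res.mk (exteriorPower.ιMulti S i (fun j => g (v j)))
  map_update_add' v j x y := by
    refine Res.ext (f := f) ?_
    have h : ∀ z, (fun k => g (Function.update v j z k)) = Function.update (fun k => g (v k)) j (g z) := fun z =>
      funext fun k => Function.apply_update (fun _ a => g a) v j z k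
    show exteriorPower.ιMulti S i _ = exteriorPower.ιMulti S i _ + exteriorPower.ιMulti S i _
    simp only [h, map_add, AlternatingMap.map_update_add]
  map_update_smul' v j c x := by
    refine Res.ext (f := f) ?_
    have h : ∀ z, (fun k => g (Function.update v j z k)) = Function.update (fun k => g (v k)) j (g z) := fun z =>
      funext fun k => Function.apply_update (fun _ a => g a) v j z k
    show exteriorPower.ιMulti S i (fun k => g (Function.update v j (c • x) k)) =
      f c • exteriorPower.ιMulti S i (fun k => g (Function.update v j x k))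
    simp only [h, LinearMap.map_smulₛₗ, AlternatingMap.map_update_smul]
  map_eq_zero_of_eq' v j k hv hjk := by
    refine Res.ext (f := f) ?_
    exact AlternatingMap.map_eq_zero_of_eq _ _ (congrArg g hv) hjk

/-- The exterior power of a semilinear map. -/
def map (i : ℕ) (g : M →ₛₗ[f] N) : ↥(⋀[R]^i M) →ₛₗ[f] ↥(⋀[S]^i N) where
  toFun z := Res.val (exteriorPower.alternatingMapLinearEquiv (semiAlt i g) z)
  map_add' _ _ := by rw [map_add]; rfl
  map_smul' r z := by rw [map_smul]; rfl

theorem map_ιMulti (g : M →ₛₗ[f] N) (v : Fin i → M) :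
    map i g (exteriorPower.ιMulti R i v) = exteriorPower.ιMulti S i (fun j => g (v j)) := by
  show Res.val (exteriorPower.alternatingMapLinearEquiv (semiAlt i g) (exteriorPower.ιMulti R i v)) = _
  rw [exteriorPower.alternatingMapLinearEquiv_apply_ιMulti]
  rfl

/-- Semilinear maps out of an exterior power agree once they agree on the generators. -/
theorem hom_ext {A : Type u} [AddCommGroup A] [Module S A] {φ ψ : ↥(⋀[R]^i M) →ₛₗ[f] A}
    (h : ∀ v : Fin i → M, φ (exteriorPower.ιMulti R i v) = ψ (exteriorPower.ιMulti R i v)) : φ = ψ := by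
  refine LinearMap.ext fun z => ?_
  have hz : z ∈ Submodule.span R (Set.range (exteriorPower.ιMulti R i (M := M))) := by
    rw [exteriorPower.ιMulti_span]; trivial
  induction hz using Submodule.span_induction with
  | mem _ hx => obtain ⟨v, rfl⟩ := hx; exact h v
  | zero => rw [map_zero, map_zero]
  | add x y _ _ hx hy => rw [map_add, map_add, hx, hy]
  | smul r x _ hx => rw [LinearMap.map_smulₛₗ, LinearMap.map_smulₛₗ, hx]

theorem map_map {T : Type u} [CommRing T] {f' : S →+* T} {P : Type u} [AddCommGroup P] [Module T P]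
    {f'' : R →+* T} [RingHomCompTriple f f' f'']
    (g : M →ₛₗ[f] N) (g' : N →ₛₗ[f'] P) (g'' : M →ₛₗ[f''] P) (hg : ∀ m, g' (g m) = g'' m) (z : ↥(⋀[R]^i M)) :
    map i g' (map i g z) = map i g'' z := by
  refine LinearMap.congr_fun (hom_ext (φ := (map i g').comp (map i g)) (ψ := map i g'') fun v => ?_) z
  show map i g' (map i g _) = _
  rw [map_ιMulti, map_ιMulti, map_ιMulti]
  exact congrArg _ (funext fun j => hg _)

theorem map_self (g : M →ₛₗ[RingHom.id R] M) (hg : ∀ m, g m = m) (z : ↥(⋀[R]^i M)) : map i g z = z :=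
  LinearMap.congr_fun (hom_ext (φ := map i g) (ψ := LinearMap.id) fun v => by
    rw [map_ιMulti, LinearMap.id_apply]
    exact congrArg _ (funext fun j => hg _)) z

/-- Exterior powers commute with base change. -/
theorem isBaseChange [Algebra R S] [Module R N] [IsScalarTower R S N] {g : M →ₗ[R] N} (hg : IsBaseChange S g)
    (F : ↥(⋀[R]^i M) →ₗ[R] ↥(⋀[S]^i N))
    (hF : ∀ v, F (exteriorPower.ιMulti R i v) = exteriorPower.ιMulti S i (fun j => g (v j))) :
    IsBaseChange S F := by
  let p : ↥(⋀[S]^i (S ⊗[R] M)) →ₗ[S] ↥(⋀[S]^i N) := exteriorPower.map i hg.equiv.toLinearMap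
  let q : ↥(⋀[S]^i N) →ₗ[S] ↥(⋀[S]^i (S ⊗[R] M)) := exteriorPower.map i hg.equiv.symm.toLinearMap
  have h1 : p ∘ₗ q = LinearMap.id := by
    simp only [p, q, ← exteriorPower.map_comp]
    rw [show hg.equiv.toLinearMap ∘ₗ hg.equiv.symm.toLinearMap = LinearMap.id from
      LinearMap.ext fun x => hg.equiv.apply_symm_apply x, exteriorPower.map_id]
  have h2 : q ∘ₗ p = LinearMap.id := by
    simp only [p, q, ← exteriorPower.map_comp]
    rw [show hg.equiv.symm.toLinearMap ∘ₗ hg.equiv.toLinearMap = LinearMap.id from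
      LinearMap.ext fun x => hg.equiv.symm_apply_apply x, exteriorPower.map_id]
  let e₂ : ↥(⋀[S]^i (S ⊗[R] M)) ≃ₗ[S] ↥(⋀[S]^i N) :=
    { p with invFun := q, left_inv := LinearMap.congr_fun h2, right_inv := LinearMap.congr_fun h1 }
  let e : S ⊗[R] ↥(⋀[R]^i M) ≃ₗ[S] ↥(⋀[S]^i N) :=
    (LinearEquiv.ofBijective _ (Synt29.ExtBC.bijective_fwd (A := R) (B := S) (M := M) i)).trans e₂
  refine IsBaseChange.of_equiv e fun z => ?_
  refine LinearMap.congr_fun (f := (e.toLinearMap.restrictScalars R).comp
    (TensorProduct.mk R S ↥(⋀[R]^i M) 1)) (g := F) ?_ z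
  refine exteriorPower.linearMap_ext (AlternatingMap.ext fun v => ?_)
  show p (Synt29.ExtBC.fwd R S M i (1 ⊗ₜ exteriorPower.ιMulti R i v)) = F (exteriorPower.ιMulti R i v)
  rw [hF, Synt29.ExtBC.fwd_tmul, one_smul]
  simp only [p, exteriorPower.map_apply_ιMulti]
  refine congrArg _ (funext fun j => ?_)
  show hg.equiv (1 ⊗ₜ v j) = _
  rw [IsBaseChange.equiv_tmul, one_smul]

end Groth.Agent.ExtPowSh
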