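import Groth.Prelude.Def_ExtPow2
import Groth.Agent.ExtPowSh.Algebra
import Groth.Agent.KFlatLib.Scheme.TensorStalk
import Groth.Agent.QCoh.Stalk
import Groth.Agent.QCoh.FT
import Groth.Agent.QCoh.Qcqs
import Groth.Agent.QCoh.LocFree

/-!
# Exterior powers of quasi-coherent modules
-/

set_option linter.style.haveILetI false
set_option linter.unusedSectionVars false
set_option backward.isDefEq.respectTransparency false
set_option backward.isDefEq.respectTransparency.types false
set_option maxHeartbeats 1000000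
set_option autoImplicit false

universe u

open CategoryTheory CategoryTheory.Limits AlgebraicGeometry TopologicalSpace Opposite

noncomputable section

namespace Groth.Agent.ExtPowSh

open Groth.Agent

variable {X : Scheme.{u}} (E : X.Modules) (i : ℕ)

/-- Restriction of sections, semilinearly. -/
def resL {U V : X.Opens} (h : V ≤ U) :
    E.val.obj (op U) →ₛₗ[(X.presheaf.map (homOfLE h).op).hom] E.val.obj (op V) where
  toFun s := E.val.map (homOfLE h).op s
  map_add' a b := map_add (E.val.map (homOfLE h).op).hom a b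
  map_smul' r a := E.val.map_smul (homOfLE h).op r a

/-- The sectionwise exterior power. -/
def pre : CohB1.PMod X where
  obj U := ModuleCat.of Γ(X, U.unop) ↥(⋀[Γ(X, U.unop)]^i (E.val.obj (op U.unop)))
  map {U V} f := ModuleCat.ofHom
    (Y := (ModuleCat.restrictScalars ((X.sheaf.obj ⋙ forget₂ CommRingCat RingCat).map f).hom).obj
      (ModuleCat.of Γ(X, V.unop) ↥(⋀[Γ(X, V.unop)]^i (E.val.obj (op V.unop)))))
    { toFun := map i (resL E f.unop.le)
      map_add' := map_add _
      map_smul' := fun r z => LinearMap.map_smulₛₗ _ r z }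
  map_id U := by
    refine ModuleCat.hom_ext (LinearMap.ext fun z => ?_)
    show map i (resL E _) z = z
    refine LinearMap.congr_fun (hom_ext (φ := map i (resL E (le_refl U.unop)))
      (ψ := { toFun := id, map_add' := fun _ _ => rfl, map_smul' := fun r a => ?_ }) fun v => ?_) z
    · show r • a = (X.presheaf.map (homOfLE (le_refl U.unop)).op).hom r • a
      rw [show (homOfLE (le_refl U.unop)).op = 𝟙 _ from rfl, X.presheaf.map_id]
      rfl
    · rw [map_ιMulti]
      refine congrArg _ (funext fun j => ?_)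
      exact congr($(E.val.presheaf.map_id (op U.unop)) (v j))
  map_comp {U V W} f g := by
    refine ModuleCat.hom_ext (LinearMap.ext fun z => ?_)
    show map i (resL E _) z = map i (resL E g.unop.le) (map i (resL E f.unop.le) z)
    haveI : RingHomCompTriple (X.presheaf.map (homOfLE f.unop.le).op).hom (X.presheaf.map (homOfLE g.unop.le).op).hom
        (X.presheaf.map (homOfLE (g.unop.le.trans f.unop.le)).op).hom :=
      ⟨by rw [← CommRingCat.hom_comp, ← X.presheaf.map_comp]; rfl⟩
    exact (map_map _ _ _ (fun m => (E.val.map_comp_apply (homOfLE f.unop.le).op (homOfLE g.unop.le).op m).symm) z).symm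

/-- The exterior power of a module. -/
def L : X.Modules := DCoh.shP.obj (pre E i)

/-- A wedge of sections. -/
def wedge {U : X.Opens} (v : Fin i → E.val.obj (op U)) : (pre E i).obj (op U) :=
  exteriorPower.ιMulti Γ(X, U) i v

theorem res_wedge {U V : X.Opens} (h : V ≤ U) (v : Fin i → E.val.obj (op U)) :
    KFlatLib.res (pre E i) (homOfLE h) (wedge E i v) = wedge E i (fun j => resL E h (v j)) :=
  map_ιMulti (resL E h) v

/-- Sections of the exterior power from wedges of sections. -/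
def toL (U : X.Opens) : ↥(⋀[Γ(X, U)]^i (E.val.obj (op U))) →ₗ[Γ(X, U)] (L E i).val.obj (op U) where
  toFun z := (KFlatLib.unitShP (pre E i)).app (op U) z
  map_add' a b := map_add ((KFlatLib.unitShP (pre E i)).app (op U)).hom a b
  map_smul' r a := KFlatLib.app_sm (KFlatLib.unitShP (pre E i)) r a

theorem map_toL {U V : X.Opens} (h : V ≤ U) (z : ↥(⋀[Γ(X, U)]^i (E.val.obj (op U)))) :
    (L E i).val.map (homOfLE h).op (toL E i U z) = toL E i V (map i (resL E h) z) :=
  (PresheafOfModules.naturality_apply (KFlatLib.unitShP (pre E i)) (homOfLE h).op z).symm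

/-- Sections come locally from wedges. -/
theorem exists_local {U : X.Opens} (l : (L E i).val.obj (op U)) {x : X} (hx : x ∈ U) :
    ∃ (W : X.Opens) (h : W ≤ U) (z : ↥(⋀[Γ(X, W)]^i (E.val.obj (op W)))), x ∈ W ∧
      toL E i W z = (L E i).val.map (homOfLE h).op l := by
  obtain ⟨m, hm⟩ := (ConcreteCategory.bijective_of_isIso
    ((KFlatLib.stalkP x).map (KFlatLib.unitShP (pre E i)))).2
    (KFlatLib.germP (DCoh.toP.obj (L E i)) U hx l)
  obtain ⟨V, hV, z, rfl⟩ := KFlatLib.exists_germP m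
  have hm' : KFlatLib.germP (DCoh.toP.obj (L E i)) V hV (toL E i V z) =
      KFlatLib.germP (DCoh.toP.obj (L E i)) U hx l :=
    (KFlatLib.stalkModMap_germ (KFlatLib.unitShP (pre E i)) V hV z).symm.trans hm
  obtain ⟨W, hxW, a, b, hab⟩ := TopCat.Presheaf.germ_eq (DCoh.toP.obj (L E i)).presheaf x hV hx _ _ hm'
  refine ⟨W, b.le, map i (resL E a.le) z, hxW, ?_⟩
  rw [← map_toL]
  exact hab

/-- Wedges with vanishing image vanish locally. -/
theorem exists_local_zero {U : X.Opens} {z : ↥(⋀[Γ(X, U)]^i (E.val.obj (op U)))} (hz : toL E i U z = 0)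
    {x : X} (hx : x ∈ U) : ∃ (W : X.Opens) (h : W ≤ U), x ∈ W ∧ map i (resL E h) z = 0 := by
  have h0 : KFlatLib.germP (pre E i) U hx z = 0 := by
    refine (ConcreteCategory.bijective_of_isIso
      ((KFlatLib.stalkP x).map (KFlatLib.unitShP (pre E i)))).1 ?_
    refine (KFlatLib.stalkModMap_germ (KFlatLib.unitShP (pre E i)) U hx z).trans ?_
    show KFlatLib.germP (DCoh.toP.obj (L E i)) U hx (toL E i U z) = _
    rw [hz, map_zero, map_zero]
  obtain ⟨W, hxW, a, b, hab⟩ :=
    TopCat.Presheaf.germ_eq (pre E i).presheaf x hx hx z 0 (h0.trans (map_zero _).symm)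
  exact ⟨W, a.le, hxW, hab.trans (map_zero ((pre E i).presheaf.map b.op).hom)⟩

/-- On basic opens, wedges of sections are localizations. -/
theorem isLocalizedModule_basicOpen (hE : Coh.IsQCoh E) {U : X.Opens} (hU : IsAffineOpen U) (g : Γ(X, U)) :
    letI := (X.presheaf.map (homOfLE (X.basicOpen_le g)).op).hom.toAlgebra
    letI : Module Γ(X, U) ↥(⋀[Γ(X, X.basicOpen g)]^i (E.val.obj (op (X.basicOpen g)))) :=
      Module.compHom _ (X.presheaf.map (homOfLE (X.basicOpen_le g)).op).hom
    IsLocalizedModule (Submonoid.powers g)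
      ({ toFun := map i (resL E (X.basicOpen_le g)), map_add' := map_add _,
         map_smul' := fun r z => LinearMap.map_smulₛₗ _ r z } :
        ↥(⋀[Γ(X, U)]^i (E.val.obj (op U))) →ₗ[Γ(X, U)]
          ↥(⋀[Γ(X, X.basicOpen g)]^i (E.val.obj (op (X.basicOpen g))))) := by
  letI := (X.presheaf.map (homOfLE (X.basicOpen_le g)).op).hom.toAlgebra
  letI : Module Γ(X, U) (E.val.obj (op (X.basicOpen g))) :=
    Module.compHom _ (X.presheaf.map (homOfLE (X.basicOpen_le g)).op).hom
  haveI : IsScalarTower Γ(X, U) Γ(X, X.basicOpen g) (E.val.obj (op (X.basicOpen g))) :=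
    .of_algebraMap_smul fun _ _ => rfl
  letI : Module Γ(X, U) ↥(⋀[Γ(X, X.basicOpen g)]^i (E.val.obj (op (X.basicOpen g)))) :=
    Module.compHom _ (X.presheaf.map (homOfLE (X.basicOpen_le g)).op).hom
  haveI : IsScalarTower Γ(X, U) Γ(X, X.basicOpen g) ↥(⋀[Γ(X, X.basicOpen g)]^i (E.val.obj (op (X.basicOpen g)))) :=
    .of_algebraMap_smul fun _ _ => rfl
  haveI : IsLocalization.Away g Γ(X, X.basicOpen g) := hU.isLocalization_basicOpen g
  let r : E.val.obj (op U) →ₗ[Γ(X, U)] E.val.obj (op (X.basicOpen g)) :=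
    { toFun := resL E (X.basicOpen_le g), map_add' := map_add _,
      map_smul' := fun c a => LinearMap.map_smulₛₗ _ c a }
  haveI : IsLocalizedModule (Submonoid.powers g) r := QCoh.isLocalizedModule_basicRes g hE hU
  have hr : IsBaseChange Γ(X, X.basicOpen g) r :=
    (isLocalizedModule_iff_isBaseChange (Submonoid.powers g) Γ(X, X.basicOpen g) r).1 inferInstance
  exact (isLocalizedModule_iff_isBaseChange (Submonoid.powers g) Γ(X, X.basicOpen g) _).2
    (isBaseChange hr _ fun v => map_ιMulti (resL E (X.basicOpen_le g)) v)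

/-- A wedge over an affine open that vanishes on a basic open is killed by a power. -/
theorem exists_pow_smul_eq_zero (hE : Coh.IsQCoh E) {U : X.Opens} (hU : IsAffineOpen U) (g : Γ(X, U))
    {z : ↥(⋀[Γ(X, U)]^i (E.val.obj (op U)))} (hz : map i (resL E (X.basicOpen_le g)) z = 0) :
    ∃ n : ℕ, g ^ n • z = 0 := by
  have h := isLocalizedModule_basicOpen E i hE hU g
  letI : Module Γ(X, U) ↥(⋀[Γ(X, X.basicOpen g)]^i (E.val.obj (op (X.basicOpen g)))) :=
    Module.compHom _ (X.presheaf.map (homOfLE (X.basicOpen_le g)).op).hom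
  haveI := h
  obtain ⟨⟨c, n, rfl⟩, hc⟩ := (IsLocalizedModule.eq_zero_iff (Submonoid.powers g)
    ({ toFun := map i (resL E (X.basicOpen_le g)), map_add' := map_add _,
       map_smul' := fun r z => LinearMap.map_smulₛₗ _ r z } :
      ↥(⋀[Γ(X, U)]^i (E.val.obj (op U))) →ₗ[Γ(X, U)]
        ↥(⋀[Γ(X, X.basicOpen g)]^i (E.val.obj (op (X.basicOpen g)))))).1 hz
  exact ⟨n, hc⟩

theorem map_res {U V W : X.Opens} (h : V ≤ U) (h' : W ≤ V) (z : ↥(⋀[Γ(X, U)]^i (E.val.obj (op U)))) :
    map i (resL E h') (map i (resL E h) z) = map i (resL E (h'.trans h)) z :=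
  KFlatLib.res_res (P := pre E i) (homOfLE h) (homOfLE h') z

theorem toL_injective (hE : Coh.IsQCoh E) {U : X.Opens} (hU : IsAffineOpen U) :
    Function.Injective (toL E i U) := by
  refine (injective_iff_map_eq_zero _).2 fun z hz => ?_
  have hI : (Submodule.span Γ(X, U) {z}).annihilator = ⊤ := by
    by_contra hne
    obtain ⟨P, hP, hle⟩ := Ideal.exists_le_maximal _ hne
    obtain ⟨y, hy, hyP⟩ := QCoh.exists_point hU (⟨P, hP.isPrime⟩ : PrimeSpectrum Γ(X, U))
    obtain ⟨W, hWU, hyW, hz0⟩ := exists_local_zero E i hz hy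
    obtain ⟨g, hgW, hyg⟩ := hU.exists_basicOpen_le ⟨y, hyW⟩ hy
    obtain ⟨n, hn⟩ := exists_pow_smul_eq_zero E i hE hU g (z := z) (by
      rw [← map_res E i hWU hgW, hz0, map_zero])
    have hgP : g ∉ P := fun h => by
      have h1 : hU.primeIdealOf ⟨y, hy⟩ ∈ PrimeSpectrum.basicOpen g := by
        rw [← hU.fromSpec_preimage_basicOpen g]
        show hU.fromSpec (hU.primeIdealOf ⟨y, hy⟩) ∈ X.basicOpen g
        rw [hU.fromSpec_primeIdealOf]
        exact hyg
      rw [hyP] at h1
      exact h1 h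
    exact hgP (hP.isPrime.mem_of_pow_mem n (hle (Submodule.mem_annihilator_span_singleton _ _ |>.2 hn)))
  exact (Submodule.mem_annihilator_span_singleton z (1 : Γ(X, U))).1 (by rw [hI]; trivial) |> (one_smul _ z).symm.trans

theorem toL_surjective (hE : Coh.IsQCoh E) {U : X.Opens} (hU : IsAffineOpen U) :
    Function.Surjective (toL E i U) := by
  classical
  intro l
  let I : Ideal Γ(X, U) := (LinearMap.range (toL E i U)).comap (LinearMap.toSpanSingleton Γ(X, U) _ l)
  suffices hI : I = ⊤ by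
    have h1 : (1 : Γ(X, U)) ∈ I := hI ▸ trivial
    obtain ⟨z, hz⟩ := h1
    exact ⟨z, hz.trans (one_smul _ l)⟩
  by_contra hne
  obtain ⟨P, hP, hle⟩ := Ideal.exists_le_maximal _ hne
  obtain ⟨y, hy, hyP⟩ := QCoh.exists_point hU (⟨P, hP.isPrime⟩ : PrimeSpectrum Γ(X, U))
  -- local preimages
  have hloc : ∀ x : U, ∃ (g : Γ(X, U)) (_ : x.1 ∈ X.basicOpen g)
      (z : ↥(⋀[Γ(X, X.basicOpen g)]^i (E.val.obj (op (X.basicOpen g))))),
      toL E i _ z = (L E i).val.map (homOfLE (X.basicOpen_le g)).op l := fun x => by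
    obtain ⟨W, hWU, z, hxW, hz⟩ := exists_local E i l x.2
    obtain ⟨g, hgW, hxg⟩ := hU.exists_basicOpen_le ⟨x.1, hxW⟩ x.2
    refine ⟨g, hxg, map i (resL E hgW) z, ?_⟩
    rw [← map_toL, hz]
    exact (congr($((L E i).val.presheaf.map_comp (homOfLE hWU).op (homOfLE hgW).op) l)).symm
  choose g hg z hz using hloc
  obtain ⟨y', rfl⟩ : ∃ y' : U, y'.1 = y := ⟨⟨y, hy⟩, rfl⟩
  let g₀ := g y'
  -- a numerator on `U`
  have hl := isLocalizedModule_basicOpen E i hE hU g₀
  letI : Module Γ(X, U) ↥(⋀[Γ(X, X.basicOpen g₀)]^i (E.val.obj (op (X.basicOpen g₀)))) :=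
    Module.compHom _ (X.presheaf.map (homOfLE (X.basicOpen_le g₀)).op).hom
  haveI := hl
  obtain ⟨⟨z₀, ⟨_, n, rfl⟩⟩, hn⟩ := IsLocalizedModule.surj (Submonoid.powers g₀)
    ({ toFun := map i (resL E (X.basicOpen_le g₀)), map_add' := map_add _,
       map_smul' := fun r z => LinearMap.map_smulₛₗ _ r z } :
      ↥(⋀[Γ(X, U)]^i (E.val.obj (op U))) →ₗ[Γ(X, U)]
        ↥(⋀[Γ(X, X.basicOpen g₀)]^i (E.val.obj (op (X.basicOpen g₀))))) (z y')
  have hnum : map i (resL E (X.basicOpen_le g₀)) z₀ =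
      (X.presheaf.map (homOfLE (X.basicOpen_le g₀)).op).hom (g₀ ^ n) • z y' := hn.symm
  -- the difference
  let d : (L E i).val.obj (op U) := g₀ ^ n • l - toL E i U z₀
  have hd : ∀ x : U, (L E i).val.map (homOfLE (X.basicOpen_le (g x))).op d =
      toL E i _ ((X.presheaf.map (homOfLE (X.basicOpen_le (g x))).op).hom (g₀ ^ n) • z x -
        map i (resL E (X.basicOpen_le (g x))) z₀) := fun x => by
    refine (map_sub ((L E i).val.map (homOfLE (X.basicOpen_le (g x))).op).hom _ _).trans ?_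
    refine Eq.trans ?_ (map_sub (toL E i _) _ _).symm
    refine congrArg₂ (· - ·) ?_ (map_toL E i _ z₀)
    refine ((L E i).val.map_smul _ _ l).trans (Eq.trans ?_ (map_smul (toL E i _) _ _).symm)
    exact congrArg _ (hz x).symm
  have hd0 : (L E i).val.map (homOfLE (X.basicOpen_le g₀)).op d = 0 := by
    rw [hd, hnum, sub_self, map_zero]
  have hkill : ∀ x : U, ∃ N : ℕ,
      (L E i).val.map (homOfLE (X.basicOpen_le (g x))).op (g₀ ^ N • d) = 0 := fun x => by
    let ι' := homOfLE (X.basicOpen_le (g x))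
    let a : Γ(X, X.basicOpen (g x)) := (X.presheaf.map ι'.op).hom g₀
    let w := (X.presheaf.map ι'.op).hom (g₀ ^ n) • z x - map i (resL E (X.basicOpen_le (g x))) z₀
    have hb : X.basicOpen a ≤ X.basicOpen g₀ := (Scheme.basicOpen_res X g₀ ι'.op).le.trans inf_le_right
    have hw : map i (resL E (X.basicOpen_le a)) w = 0 := by
      refine toL_injective E i hE ((hU.basicOpen (g x)).basicOpen a) ?_
      rw [map_zero, ← map_toL, ← hd]
      refine (congr($((L E i).val.presheaf.map_comp ι'.op (homOfLE (X.basicOpen_le a)).op) d)).symm.trans ?_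
      refine (congr($((L E i).val.presheaf.map_comp (homOfLE (X.basicOpen_le g₀)).op (homOfLE hb).op) d)).trans ?_
      exact (congrArg _ hd0).trans (map_zero ((L E i).val.map (homOfLE hb).op).hom)
    obtain ⟨N, hN⟩ := exists_pow_smul_eq_zero E i hE (hU.basicOpen (g x)) a hw
    refine ⟨N, ?_⟩
    refine ((L E i).val.map_smul ι'.op (g₀ ^ N) d).trans ?_
    show (X.presheaf.map ι'.op).hom (g₀ ^ N) • _ = _
    rw [hd]
    refine (map_smul (toL E i _) _ _).symm.trans ?_
    rw [map_pow (X.presheaf.map ι'.op).hom]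
    exact (congrArg (toL E i _) hN).trans (map_zero _)
  choose N hN using hkill
  obtain ⟨t, ht⟩ := hU.isCompact.elim_finite_subcover (fun x : U => (X.basicOpen (g x) : Set X))
    (fun x => (X.basicOpen (g x)).isOpen) (fun y hy => Set.mem_iUnion.2 ⟨⟨y, hy⟩, hg ⟨y, hy⟩⟩)
  have h0 : g₀ ^ t.sup N • d = 0 := by
    refine TopCat.Sheaf.eq_of_locally_eq' ⟨(L E i).presheaf, (L E i).isSheaf⟩ (fun x : t => X.basicOpen (g x.1)) U
      (fun x => homOfLE (X.basicOpen_le (g x.1))) (fun y hy => ?_) _ _ fun x => ?_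
    · obtain ⟨x, hx, hy'⟩ := Set.mem_iUnion₂.1 (ht hy)
      exact Opens.mem_iSup.2 ⟨⟨x, hx⟩, hy'⟩
    · show (L E i).val.map (homOfLE (X.basicOpen_le (g x.1))).op (g₀ ^ t.sup N • d) =
        (L E i).val.map (homOfLE (X.basicOpen_le (g x.1))).op 0
      rw [show t.sup N = (t.sup N - N x.1) + N x.1 from (Nat.sub_add_cancel (Finset.le_sup x.2)).symm, pow_add,
        mul_smul]
      refine ((L E i).val.map_smul _ _ _).trans ?_
      rw [hN x.1, smul_zero]
      exact (map_zero ((L E i).val.map (homOfLE (X.basicOpen_le (g x.1))).op).hom).symm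
  have hmem : g₀ ^ (t.sup N + n) ∈ I := by
    refine ⟨g₀ ^ t.sup N • z₀, ?_⟩
    rw [map_smul, LinearMap.toSpanSingleton_apply, pow_add, mul_smul]
    rw [show g₀ ^ n • l = d + toL E i U z₀ from (sub_add_cancel _ _).symm, smul_add, h0, zero_add]
  have hgP : g₀ ∉ P := fun h => by
    have h1 : hU.primeIdealOf ⟨y'.1, hy⟩ ∈ PrimeSpectrum.basicOpen g₀ := by
      rw [← hU.fromSpec_preimage_basicOpen g₀]
      show hU.fromSpec (hU.primeIdealOf ⟨y'.1, hy⟩) ∈ X.basicOpen g₀
      rw [hU.fromSpec_primeIdealOf]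
      exact hg y'
    rw [hyP] at h1
    exact h1 h
  exact hgP (hP.isPrime.mem_of_pow_mem _ (hle hmem))

theorem toL_bijective (hE : Coh.IsQCoh E) {U : X.Opens} (hU : IsAffineOpen U) :
    Function.Bijective (toL E i U) :=
  ⟨toL_injective E i hE hU, toL_surjective E i hE hU⟩

/-- The exterior power is an exterior power. -/
theorem isExtPow (hE : Coh.IsQCoh E) : ExtPow.IsExtPow i E (L E i) := by
  refine ⟨fun U => (LinearEquiv.ofBijective (toL E i U.1) (toL_bijective E i hE U.2)).symm, fun U V h e => ?_⟩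
  show (L E i).val.map (homOfLE h).op (toL E i U.1 _) = toL E i V.1 _
  rw [map_toL, map_ιMulti]
  rfl

/-- The exterior power of a quasi-coherent module is quasi-coherent. -/
theorem isQCoh (hE : Coh.IsQCoh E) : Coh.IsQCoh (L E i) := by
  refine QCoh.isQCoh_of_sections (fun U hU f s => ?_) (fun U hU f t ht => ?_)
  · obtain ⟨z, rfl⟩ := (toL_bijective E i hE (hU.basicOpen f)).2 s
    have hl := isLocalizedModule_basicOpen E i hE hU f
    letI : Module Γ(X, U) ↥(⋀[Γ(X, X.basicOpen f)]^i (E.val.obj (op (X.basicOpen f)))) :=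
      Module.compHom _ (X.presheaf.map (homOfLE (X.basicOpen_le f)).op).hom
    haveI := hl
    obtain ⟨⟨z₀, ⟨_, n, rfl⟩⟩, hn⟩ := IsLocalizedModule.surj (Submonoid.powers f)
      ({ toFun := map i (resL E (X.basicOpen_le f)), map_add' := map_add _,
         map_smul' := fun r z => LinearMap.map_smulₛₗ _ r z } :
        ↥(⋀[Γ(X, U)]^i (E.val.obj (op U))) →ₗ[Γ(X, U)]
          ↥(⋀[Γ(X, X.basicOpen f)]^i (E.val.obj (op (X.basicOpen f))))) z
    refine ⟨n, toL E i U z₀, ?_⟩
    refine (map_toL E i (X.basicOpen_le f) z₀).trans ?_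
    have h2 : map i (resL E (X.basicOpen_le f)) z₀ =
        (X.presheaf.map (homOfLE (X.basicOpen_le f)).op).hom f ^ n • z := by
      rw [← map_pow]
      exact hn.symm
    rw [h2, map_smul]
  · obtain ⟨z, rfl⟩ := (toL_bijective E i hE hU).2 t
    obtain ⟨n, hn⟩ := exists_pow_smul_eq_zero E i hE hU f (z := z)
      (toL_injective E i hE (hU.basicOpen f) (by rw [map_zero, ← map_toL]; exact ht))
    exact ⟨n, (map_smul (toL E i U) _ z).symm.trans ((congrArg _ hn).trans (map_zero _))⟩

end Groth.Agent.ExtPowSh
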