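import Groth.Agent.ExtPowSh.Functor
import Groth.Agent.ExtPowSh.Iso
import Groth.Agent.KRRReg.PushOne
import Groth.Prelude.Def_SGA6

/-!
# Exterior powers of an extension of bundles
-/

set_option linter.style.haveILetI false
set_option linter.unusedSectionVars false
set_option backward.isDefEq.respectTransparency false
set_option backward.isDefEq.respectTransparency.types false
set_option maxHeartbeats 1000000
set_option autoImplicit false

universe u

open CategoryTheory CategoryTheory.Limits AlgebraicGeometry TopologicalSpace Opposite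
open scoped TensorProduct

noncomputable section

namespace Groth.Agent.ExtPowSh

section algebra

variable {R : Type u} [CommRing R] {A B C : Type u} [AddCommGroup A] [Module R A] [AddCommGroup B] [Module R B]
  [AddCommGroup C] [Module R C] (a : A →ₗ[R] B) (b : B →ₗ[R] C) (s : C →ₗ[R] B)

theorem map_map_section (hbs : ∀ z, b (s z) = z) {p q : ℕ} (w : ↥(⋀[R]^p A) ⊗[R] ↥(⋀[R]^q C)) :
    TensorProduct.map LinearMap.id (exteriorPower.map q b)
      (TensorProduct.map LinearMap.id (exteriorPower.map q s) w) = w := by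
  rw [← LinearMap.comp_apply, ← TensorProduct.map_comp, ← exteriorPower.map_comp,
    show b ∘ₗ s = LinearMap.id from LinearMap.ext hbs, exteriorPower.map_id, LinearMap.comp_id,
    TensorProduct.map_id, LinearMap.id_apply]

theorem mu_map_sub_gradedMap_mem (s₀ : C →ₗ[R] B) (hbs₀ : ∀ z, b (s₀ z) = z) (hbs : ∀ z, b (s z) = z)
    (hs : ∀ x : B, ∃ y : A, x - s (b x) = a y) [Module.Free R A] [Module.Finite R A] [Module.Free R C]
    [Module.Finite R C] {p q n : ℕ} (h : p + q = n)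
    (t : ↥(⋀[R]^p A) ⊗[R] ↥(⋀[R]^q C)) :
    (mu a h (TensorProduct.map LinearMap.id (exteriorPower.map q s₀) t) : ExteriorAlgebra R B) -
      (gradedMap a s h t : ExteriorAlgebra R B) ∈ filtNext a p q := by
  have hb : TensorProduct.map (LinearMap.id (M := ↥(⋀[R]^p A))) (exteriorPower.map q b)
      (TensorProduct.map LinearMap.id (exteriorPower.map q s₀) t -
        TensorProduct.map LinearMap.id (exteriorPower.map q s) t) = 0 := by
    rw [map_sub, map_map_section b s₀ hbs₀, map_map_section b s hbs, sub_self]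
  have := mu_mem_filtNext a b s hs h hb
  rw [map_sub] at this
  exact this

end algebra

variable {X : Scheme.{u}} (S : ShortComplex X.Modules)

/-- Affine opens over which the outer terms are free. -/
structure Small (V : X.Opens) : Prop where
  affine : IsAffineOpen V
  free₁ : Module.Free Γ(X, V) (S.X₁.val.obj (op V))
  fin₁ : Module.Finite Γ(X, V) (S.X₁.val.obj (op V))
  free₃ : Module.Free Γ(X, V) (S.X₃.val.obj (op V))
  fin₃ : Module.Finite Γ(X, V) (S.X₃.val.obj (op V))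

theorem free_sections_vb {E : X.Modules} {U V : X.Opens} (hV : IsAffineOpen V) (hle : V ≤ U) {n : ℕ}
    (e : E.restrict U.ι ≅ FlatMod.freeMod (U : Scheme.{u}) n) :
    Module.Free Γ(X, V) (E.val.obj (op V)) ∧ Module.Finite Γ(X, V) (E.val.obj (op V)) := by
  obtain ⟨l⟩ := QCoh.free_sections hV hle e
  let l' : E.val.obj (op V) ≃ₗ[Γ(X, V)] (ULift.{u} (Fin n) →₀ Γ(X, V)) :=
    { toFun := l, map_add' := map_add l, map_smul' := fun r s => l.map_smul r s
      invFun := l.symm, left_inv := l.symm_apply_apply, right_inv := l.apply_symm_apply }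
  exact ⟨Module.Free.of_equiv l'.symm, Module.Finite.equiv l'.symm⟩

theorem isBasis_small (h₁ : FlatMod.IsFinLocFree S.X₁) (h₃ : FlatMod.IsFinLocFree S.X₃) :
    Opens.IsBasis {V : X.Opens | Small S V} := by
  refine Opens.isBasis_iff_nbhd.2 fun {W x} hx => ?_
  obtain ⟨U₁, n₁, hx₁, ⟨e₁⟩⟩ := h₁ x
  obtain ⟨U₃, n₃, hx₃, ⟨e₃⟩⟩ := h₃ x
  obtain ⟨V, hV, hxV, hle⟩ := exists_isAffineOpen_mem_and_subset (U := W ⊓ U₁ ⊓ U₃) (x := x) ⟨⟨hx, hx₁⟩, hx₃⟩
  have a₁ := free_sections_vb hV (fun y hy => (hle hy).1.2) e₁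
  have a₃ := free_sections_vb hV (fun y hy => (hle hy).2) e₃
  exact ⟨V, ⟨hV, a₁.1, a₁.2, a₃.1, a₃.2⟩, hxV, fun y hy => (hle hy).1.1⟩

variable {S} (hS : S.ShortExact) (h₁ : Coh.IsQCoh S.X₁)

include hS in
theorem inj_f (V : X.Opens) : Function.Injective (appL S.f V) := QCoh.app_f_injective hS V

theorem g_f (V : X.Opens) (x : S.X₁.val.obj (op V)) : appL S.g V (appL S.f V x) = 0 := QCoh.app_g_f V x

include hS h₁ in
theorem exists_section {V : X.Opens} (hV : Small S V) :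
    ∃ s : S.X₃.val.obj (op V) →ₗ[Γ(X, V)] S.X₂.val.obj (op V), (∀ z, appL S.g V (s z) = z) ∧
      ∀ x, ∃ y, x - s (appL S.g V x) = appL S.f V y := by
  haveI := hV.free₃
  haveI : Module.Projective Γ(X, V) (S.X₃.val.obj (op V)) := Module.Projective.of_free
  obtain ⟨s, hs⟩ := Module.projective_lifting_property (appL S.g V) LinearMap.id
    (QCoh.app_surjective_of_shortExact hS h₁ hV.affine)
  have hgs : ∀ z, appL S.g V (s z) = z := fun z => LinearMap.congr_fun hs z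
  refine ⟨s, hgs, fun x => ?_⟩
  obtain ⟨y, hy⟩ := QCoh.exists_app_f_eq hS V (x - s (appL S.g V x)) (by
    show appL S.g V _ = 0
    rw [map_sub, hgs, sub_self])
  exact ⟨y, hy.symm⟩

include hS h₁ in
/-- An extension of bundles is a bundle. -/
theorem isFinLocFree_X₂ (h₁' : FlatMod.IsFinLocFree S.X₁) (h₃ : FlatMod.IsFinLocFree S.X₃) :
    FlatMod.IsFinLocFree S.X₂ := fun x => by
  obtain ⟨V, hV, hxV, -⟩ := Opens.isBasis_iff_nbhd.1 (isBasis_small S h₁' h₃) (show x ∈ (⊤ : X.Opens) from trivial)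
  obtain ⟨s, hgs, hs⟩ := exists_section hS h₁ hV
  haveI := hV.free₁; haveI := hV.fin₁; haveI := hV.free₃; haveI := hV.fin₃
  let e := splitEquiv (appL S.f V) (appL S.g V) s hs (g_f V) hgs (inj_f hS V)
  haveI : Module.Free Γ(X, V) (S.X₂.val.obj (op V)) := Module.Free.of_equiv e
  haveI : Module.Finite Γ(X, V) (S.X₂.val.obj (op V)) := Module.Finite.equiv e
  let ι := Module.Free.ChooseBasisIndex Γ(X, V) (S.X₂.val.obj (op V))
  let B := ((Module.Free.chooseBasis Γ(X, V) (S.X₂.val.obj (op V))).reindex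
    ((Fintype.equivFin ι).trans Equiv.ulift.{u}.symm)).repr
  let B' : Γ(S.X₂, V) ≃ₗ[Γ(X, V)] (ULift.{u} (Fin (Fintype.card ι)) →₀ Γ(X, V)) :=
    { toFun := B, map_add' := map_add B, map_smul' := fun r a => B.map_smul r a
      invFun := B.symm, left_inv := B.symm_apply_apply, right_inv := B.apply_symm_apply }
  exact ⟨V, _, hxV, QCoh.exists_free_restrict
    (QCoh.isQCoh_X₂ hS h₁ (QCoh.isQCoh_of_isFinLocFree h₃)) hV.affine B'⟩

section maps

variable (h₂ : Coh.IsQCoh S.X₂) (h₃ : Coh.IsQCoh S.X₃) {p q n : ℕ} (h : p + q = n)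

include h₁ h₂ in
/-- The product map on sheaves. -/
theorem exists_muHom : ∃ μ : tens (L S.X₁ p) (L S.X₂ q) ⟶ L S.X₂ n,
    ∀ (U : X.affineOpens) z, appL μ U.1 (tau S.X₁ S.X₂ p q U.1 z) = toL S.X₂ n U.1 (mu (appL S.f U.1) h z) := by
  refine exists_hom_tens S.X₁ S.X₂ p q h₁ h₂ (fun U => toL S.X₂ n U.1 ∘ₗ mu (appL S.f U.1) h)
    fun U V hle x y => ?_
  show (L S.X₂ n).val.map (homOfLE hle).op (toL S.X₂ n U.1 (mu _ h _)) = toL S.X₂ n V.1 (mu _ h _)
  rw [mu_ιMulti, mu_ιMulti, map_toL, map_ιMulti]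
  refine congrArg _ (congrArg _ (funext fun j => ?_))
  show S.X₂.val.map (homOfLE hle).op (Fin.append (appL S.f U.1 ∘ x) y (Fin.cast h.symm j)) =
    Fin.append (appL S.f V.1 ∘ fun k => S.X₁.val.map (homOfLE hle).op (x k))
      (fun k => S.X₂.val.map (homOfLE hle).op (y k)) (Fin.cast h.symm j)
  generalize Fin.cast h.symm j = k
  induction k using Fin.addCases with
  | left k => simp only [Fin.append_left, Function.comp_apply]; exact map_appL S.f hle (x k)
  | right k => simp only [Fin.append_right]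

include h₁ h₂ h₃ in
/-- The projection to the graded piece on sheaves. -/
theorem exists_betaHom : ∃ β : tens (L S.X₁ p) (L S.X₂ q) ⟶ tens (L S.X₁ p) (L S.X₃ q),
    ∀ (U : X.affineOpens) z, appL β U.1 (tau S.X₁ S.X₂ p q U.1 z) =
      tau S.X₁ S.X₃ p q U.1 (TensorProduct.map LinearMap.id (exteriorPower.map q (appL S.g U.1)) z) := by
  refine exists_hom_tens S.X₁ S.X₂ p q h₁ h₂
    (fun U => tau S.X₁ S.X₃ p q U.1 ∘ₗ TensorProduct.map LinearMap.id (exteriorPower.map q (appL S.g U.1)))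
    fun U V hle x y => ?_
  simp only [LinearMap.comp_apply, TensorProduct.map_tmul, LinearMap.id_apply, exteriorPower.map_apply_ιMulti]
  refine (map_tau S.X₁ S.X₃ p q hle _ _).trans (congrArg _ (congrArg _ (congrArg _ (funext fun j => ?_))))
  exact map_appL S.g hle (y j)

/-- A chosen product map. -/
def muHom : tens (L S.X₁ p) (L S.X₂ q) ⟶ L S.X₂ n := (exists_muHom (S := S) h₁ h₂ h).choose

theorem muHom_tau (U : X.affineOpens) (z) :
    appL (muHom h₁ h₂ h) U.1 (tau S.X₁ S.X₂ p q U.1 z) = toL S.X₂ n U.1 (mu (appL S.f U.1) h z) :=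
  (exists_muHom (S := S) h₁ h₂ h).choose_spec U z

theorem isQCoh_tens {A B : X.Modules} (hA : Coh.IsQCoh A) (hB : Coh.IsQCoh B) (p q : ℕ) :
    Coh.IsQCoh (tens (L A p) (L B q)) :=
  KFlatLib.isQCoh_tensor (isQCoh A p hA) (isQCoh B q hB)

/-- The range of the product map. -/
theorem exists_muHom_eq_iff {V : X.Opens} (hV : IsAffineOpen V) (w : ↥(⋀[Γ(X, V)]^n (S.X₂.val.obj (op V)))) :
    (∃ k, appL (muHom h₁ h₂ h) V k = toL S.X₂ n V w) ↔
      (w : ExteriorAlgebra Γ(X, V) (S.X₂.val.obj (op V))) ∈ filt (appL S.f V) p q := by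
  rw [← range_mu (appL S.f V) h]
  refine ⟨fun ⟨k, hk⟩ => ?_, fun ⟨w', ⟨z, hz⟩, hw'⟩ => ?_⟩
  · obtain ⟨z, rfl⟩ := (tau_bijective S.X₁ S.X₂ p q h₁ h₂ hV).2 k
    exact ⟨w, ⟨z, (toL_bijective S.X₂ n h₂ hV).1 ((muHom_tau h₁ h₂ h ⟨V, hV⟩ z).symm.trans hk)⟩, rfl⟩
  · obtain rfl : w' = w := Subtype.ext hw'
    exact ⟨_, (muHom_tau h₁ h₂ h ⟨V, hV⟩ z).trans (congrArg _ hz)⟩

set_option maxHeartbeats 6000000 in
include hS h₃ in
/-- One step of the filtration. -/
theorem exists_step (hb : Opens.IsBasis {V : X.Opens | Small S V}) {K : X.Modules} (hK : Coh.IsQCoh K)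
    (ν : K ⟶ L S.X₂ n)
    (hν : ∀ V, Small S V → ∀ w, (∃ k, appL ν V k = toL S.X₂ n V w) ↔
      (w : ExteriorAlgebra Γ(X, V) (S.X₂.val.obj (op V))) ∈ filtNext (appL S.f V) p q) :
    ∃ (f : tens (L S.X₁ p) (L S.X₃ q) ⟶ cokernel ν) (g : cokernel ν ⟶ cokernel (muHom h₁ h₂ h)) (w : f ≫ g = 0),
      (ShortComplex.mk f g w).ShortExact := by
  let A := L S.X₂ n
  let μ := muHom (S := S) h₁ h₂ h
  obtain ⟨β, hβ⟩ := exists_betaHom (S := S) h₁ h₂ h₃ (p := p) (q := q)
  have hA : Coh.IsQCoh A := isQCoh S.X₂ n h₂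
  have hM := isQCoh_tens h₁ h₂ p q
  have hzero : ν ≫ cokernel.π μ = 0 := by
    refine hom_eq_zero_of_isBasis _ hb fun V hV k => ?_
    obtain ⟨w, hw⟩ := (toL_bijective S.X₂ n h₂ hV.affine).2 (appL ν V k)
    obtain ⟨m, hm⟩ := (exists_muHom_eq_iff h₁ h₂ h hV.affine w).2
      (filtNext_le _ p q ((hν V hV w).1 ⟨k, hw.symm⟩))
    show appL (cokernel.π μ) V (appL ν V k) = 0
    rw [← hw, ← hm]
    exact congrArg (fun t : tens (L S.X₁ p) (L S.X₂ q) ⟶ cokernel μ => appL t V m) (cokernel.condition μ)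
  -- data on a small open
  have hsec : ∀ V, Small S V → ∀ (t : ↥(⋀[Γ(X, V)]^p (S.X₁.val.obj (op V))) ⊗[Γ(X, V)]
      ↥(⋀[Γ(X, V)]^q (S.X₃.val.obj (op V)))), ∃ z,
      appL β V (tau S.X₁ S.X₂ p q V z) = tau S.X₁ S.X₃ p q V t ∧
      ∀ s : S.X₃.val.obj (op V) →ₗ[Γ(X, V)] S.X₂.val.obj (op V), (∀ z, appL S.g V (s z) = z) →
        (∀ x, ∃ y, x - s (appL S.g V x) = appL S.f V y) →
        (mu (appL S.f V) h z : ExteriorAlgebra Γ(X, V) (S.X₂.val.obj (op V))) -
          (gradedMap (appL S.f V) s h t : ExteriorAlgebra Γ(X, V) (S.X₂.val.obj (op V))) ∈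
            filtNext (appL S.f V) p q := fun V hV t => by
    obtain ⟨s₀, hgs₀, hs₀⟩ := exists_section hS h₁ hV
    haveI := hV.free₁; haveI := hV.fin₁; haveI := hV.free₃; haveI := hV.fin₃
    exact ⟨TensorProduct.map LinearMap.id (exteriorPower.map q s₀) t,
      (hβ ⟨V, hV.affine⟩ _).trans (congrArg _ (map_map_section (appL S.g V) s₀ hgs₀ t)),
      fun s hgs hs => mu_map_sub_gradedMap_mem (appL S.f V) (appL S.g V) s s₀ hgs₀ hgs hs h t⟩
  haveI : Epi β := RelTildeX.epi_of_locally β fun U t x hx => by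
    obtain ⟨V, hV, hxV, hle⟩ := Opens.isBasis_iff_nbhd.1 hb hx
    obtain ⟨t', ht'⟩ := (tau_bijective S.X₁ S.X₃ p q h₁ h₃ hV.affine).2
      ((tens (L S.X₁ p) (L S.X₃ q)).presheaf.map (homOfLE hle).op t)
    obtain ⟨z, hz, -⟩ := hsec V hV t'
    exact ⟨V, hle, hxV, _, hz.trans ht'⟩
  let γ : tens (L S.X₁ p) (L S.X₂ q) ⟶ cokernel ν := μ ≫ cokernel.π ν
  have hγ : ∀ V, Small S V → ∀ z, (mu (appL S.f V) h z : ExteriorAlgebra Γ(X, V) (S.X₂.val.obj (op V))) ∈
      filtNext (appL S.f V) p q → appL γ V (tau S.X₁ S.X₂ p q V z) = 0 := fun V hV z hz => by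
    obtain ⟨k, hk⟩ := (hν V hV _).2 hz
    show appL (cokernel.π ν) V (appL μ V (tau S.X₁ S.X₂ p q V z)) = 0
    rw [muHom_tau h₁ h₂ h ⟨V, hV.affine⟩ z, ← hk]
    exact congrArg (fun t : K ⟶ cokernel ν => appL t V k) (cokernel.condition ν)
  have hkill : kernel.ι β ≫ γ = 0 := by
    refine hom_eq_zero_of_isBasis _ hb fun V hV k => ?_
    obtain ⟨z, hz⟩ := (tau_bijective S.X₁ S.X₂ p q h₁ h₂ hV.affine).2 (appL (kernel.ι β) V k)
    show appL γ V (appL (kernel.ι β) V k) = 0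
    rw [← hz]
    obtain ⟨s, hgs, hs⟩ := exists_section hS h₁ hV
    haveI := hV.free₁; haveI := hV.fin₁; haveI := hV.free₃; haveI := hV.fin₃
    refine hγ V hV z (mu_mem_filtNext (appL S.f V) (appL S.g V) s hs h ?_)
    refine (tau_bijective S.X₁ S.X₃ p q h₁ h₃ hV.affine).1 ?_
    rw [map_zero, ← hβ ⟨V, hV.affine⟩ z, hz]
    exact congrArg (fun t : kernel β ⟶ tens (L S.X₁ p) (L S.X₃ q) => appL t V k) (kernel.condition β)
  let f : tens (L S.X₁ p) (L S.X₃ q) ⟶ cokernel ν := Abelian.epiDesc β γ hkill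
  have hf : β ≫ f = γ := Abelian.comp_epiDesc β γ hkill
  let g : cokernel ν ⟶ cokernel μ := cokernel.desc ν (cokernel.π μ) hzero
  have hg : cokernel.π ν ≫ g = cokernel.π μ := cokernel.π_desc _ _ _
  have hw : f ≫ g = 0 := by
    rw [← cancel_epi β, ← Category.assoc, hf, Category.assoc, hg, cokernel.condition, comp_zero]
  haveI : Epi g := epi_of_epi_fac hg
  haveI : Mono f := QCoh.mono_of_isBasis f hb fun V hV => by
    intro a b hab
    obtain ⟨ta, rfl⟩ := (tau_bijective S.X₁ S.X₃ p q h₁ h₃ hV.affine).2 a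
    obtain ⟨tb, rfl⟩ := (tau_bijective S.X₁ S.X₃ p q h₁ h₃ hV.affine).2 b
    refine congrArg _ (sub_eq_zero.1 ?_)
    obtain ⟨z, hz, hz'⟩ := hsec V hV (ta - tb)
    obtain ⟨s, hgs, hs⟩ := exists_section hS h₁ hV
    haveI := hV.free₁; haveI := hV.fin₁; haveI := hV.free₃; haveI := hV.fin₃
    have h0 : appL (cokernel.π ν) V (toL S.X₂ n V (mu (appL S.f V) h z)) = 0 := by
      rw [← muHom_tau h₁ h₂ h ⟨V, hV.affine⟩ z]
      show appL γ V (tau S.X₁ S.X₂ p q V z) = 0
      rw [← hf]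
      show appL f V (appL β V _) = 0
      rw [hz, map_sub, map_sub, sub_eq_zero]
      exact hab
    obtain ⟨k, hk⟩ := exists_app_eq_of_cokernel ν hK hA hV.affine _ h0
    have hz2 := (hν V hV _).1 ⟨k, hk⟩
    refine eq_zero_of_gradedMap_mem (appL S.f V) (appL S.g V) s hs (g_f V) hgs (inj_f hS V) h ?_
    simpa using sub_mem hz2 (hz' s hgs hs)
  refine ⟨f, g, hw, { exact := RelTildeX.exact_of_locally _ fun U x hx y hy => ?_
                      mono_f := inferInstance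
                      epi_g := inferInstance }⟩
  obtain ⟨V, hV, hyV, hle⟩ := Opens.isBasis_iff_nbhd.1 hb hy
  refine ⟨V, hle, hyV, ?_⟩
  obtain ⟨m, hm⟩ := QCoh.app_surjective_of_epi hA (QCoh.isQCoh_cokernel hK hA ν) (cokernel.π ν) hV.affine
    ((cokernel ν).presheaf.map (homOfLE hle).op x)
  obtain ⟨w, rfl⟩ := (toL_bijective S.X₂ n h₂ hV.affine).2 m
  have h0 : appL (cokernel.π μ) V (toL S.X₂ n V w) = 0 := by
    rw [← hg]
    show appL g V (appL (cokernel.π ν) V (toL S.X₂ n V w)) = 0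
    refine (congrArg (appL g V) hm).trans ((map_appL g hle x).symm.trans ?_)
    show (cokernel μ).val.map (homOfLE hle).op (appL g U x) = 0
    rw [show appL g U x = 0 from hx]
    exact map_zero _
  obtain ⟨k, hk⟩ := exists_app_eq_of_cokernel μ hM hA hV.affine _ h0
  obtain ⟨s, hgs, hs⟩ := exists_section hS h₁ hV
  haveI := hV.free₁; haveI := hV.fin₁; haveI := hV.free₃; haveI := hV.fin₃
  obtain ⟨t, ht⟩ := exists_gradedMap_sub_mem (appL S.f V) (appL S.g V) s hs h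
    ((exists_muHom_eq_iff h₁ h₂ h hV.affine w).1 ⟨k, hk⟩)
  obtain ⟨z, hz, hz'⟩ := hsec V hV t
  refine ⟨tau S.X₁ S.X₃ p q V t, ?_⟩
  refine Eq.trans ?_ hm
  show appL f V (tau S.X₁ S.X₃ p q V t) = appL (cokernel.π ν) V (toL S.X₂ n V w)
  rw [← hz]
  refine (congrArg (fun T : tens (L S.X₁ p) (L S.X₂ q) ⟶ cokernel ν =>
    appL T V (tau S.X₁ S.X₂ p q V z)) hf).trans ?_
  show appL (cokernel.π ν) V (appL μ V (tau S.X₁ S.X₂ p q V z)) = _
  rw [muHom_tau h₁ h₂ h ⟨V, hV.affine⟩ z, ← sub_eq_zero, ← map_sub, ← map_sub]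
  have hmem : ((mu (appL S.f V) h z - w : ↥(⋀[Γ(X, V)]^n (S.X₂.val.obj (op V)))) :
      ExteriorAlgebra Γ(X, V) (S.X₂.val.obj (op V))) ∈ filtNext (appL S.f V) p q := by
    simpa using sub_mem (hz' s hgs hs) ht
  obtain ⟨k', hk'⟩ := (hν V hV _).2 hmem
  rw [← hk']
  exact congrArg (fun T : K ⟶ cokernel ν => appL T V k') (cokernel.condition ν)

end maps

include hS in
/-- The class of an exterior power of an extension. -/
theorem cl_eq_sum (h₁' : FlatMod.IsFinLocFree S.X₁) (h₃' : FlatMod.IsFinLocFree S.X₃) (n : ℕ) :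
    KRR.cl X (L S.X₂ n) =
      ∑ i ∈ Finset.range (n + 1), KRR.cl X (tens (L S.X₁ i) (L S.X₃ (n - i))) := by
  have h₁ := QCoh.isQCoh_of_isFinLocFree h₁'
  have h₃ := QCoh.isQCoh_of_isFinLocFree h₃'
  have hb := isBasis_small S h₁' h₃'
  have h₂' := isFinLocFree_X₂ hS h₁ h₁' h₃'
  have h₂ := QCoh.isQCoh_of_isFinLocFree h₂'
  have hT : ∀ i j, FlatMod.IsFinLocFree (tens (L S.X₁ i) (L S.X₃ j)) := fun i j =>
    KFlatLib.isFinLocFree_tensor (isFinLocFree h₁') (isFinLocFree h₃')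
  have key : ∀ p q (h : p + q = n), FlatMod.IsFinLocFree (cokernel (muHom (S := S) h₁ h₂ h)) ∧
      KRR.cl X (cokernel (muHom (S := S) h₁ h₂ h)) =
        ∑ i ∈ Finset.range p, KRR.cl X (tens (L S.X₁ i) (L S.X₃ (n - i))) := by
    intro p
    induction p with
    | zero =>
      intro q h
      haveI : Epi (muHom (S := S) h₁ h₂ h) := RelTildeX.epi_of_locally _ fun U t x hx => by
        obtain ⟨V, hV, hxV, hle⟩ := Opens.isBasis_iff_nbhd.1 hb hx
        obtain ⟨w, hw⟩ := (toL_bijective S.X₂ n h₂ hV.affine).2 ((L S.X₂ n).presheaf.map (homOfLE hle).op t)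
        obtain ⟨k, hk⟩ := (exists_muHom_eq_iff h₁ h₂ h hV.affine w).2 (by
          obtain rfl : q = n := (zero_add q).symm.trans h
          show (w : ExteriorAlgebra Γ(X, V) (S.X₂.val.obj (op V))) ∈ deg1 (appL S.f V) ^ 0 * _
          rw [pow_zero, one_mul]
          exact w.2)
        exact ⟨V, hle, hxV, k, hk.trans hw⟩
      have hz : IsZero (cokernel (muHom (S := S) h₁ h₂ h)) := isZero_cokernel_of_epi _
      exact ⟨KRRReg.isFinLocFree_zero hz, by
        rw [Finset.range_zero, Finset.sum_empty]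
        exact KZ.clSub_isZero _ hz⟩
    | succ p ih =>
      intro q h
      have h' : p + (q + 1) = n := by omega
      obtain ⟨ihf, ihc⟩ := ih (q + 1) h'
      obtain ⟨f, g, w, hse⟩ := exists_step hS h₁ h₂ h₃ h' hb (isQCoh_tens h₁ h₂ (p + 1) q) (muHom (S := S) h₁ h₂ h)
        fun V hV w => exists_muHom_eq_iff h₁ h₂ h hV.affine w
      have hf := isFinLocFree_X₂ hse (QCoh.isQCoh_of_isFinLocFree (hT p (q + 1))) (hT p (q + 1)) ihf
      refine ⟨hf, ?_⟩
      have hi : n - p = q + 1 := by omega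
      rw [Finset.sum_range_succ, ← ihc, hi]
      refine Eq.trans ?_ (add_comm _ _)
      exact KZ.clSub_ses (KRR.vbP X) hse (hT p (q + 1)) hf ihf
  obtain ⟨kf, kc⟩ := key n 0 (add_zero n)
  obtain ⟨f, g, w, hse⟩ := exists_step hS h₁ h₂ h₃ (add_zero n) hb (isQCoh S.X₂ n h₂)
    (0 : L S.X₂ n ⟶ L S.X₂ n) fun V hV w => by
      refine ⟨fun ⟨k, hk⟩ => ?_, fun hw => ?_⟩
      · have : w = 0 := (toL_bijective S.X₂ n h₂ hV.affine).1 (hk.symm.trans (map_zero (toL S.X₂ n V)).symm)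
        rw [this]
        exact zero_mem _
      · have : w = 0 := Subtype.ext ((Submodule.mem_bot _).1 hw)
        exact ⟨0, by rw [this, map_zero, map_zero]⟩
  have hf := isFinLocFree_X₂ hse (QCoh.isQCoh_of_isFinLocFree (hT n 0)) (hT n 0) kf
  rw [Finset.sum_range_succ, ← kc, Nat.sub_self, add_comm,
    ← KRRReg.cl_iso cokernelZeroIsoTarget hf]
  exact KZ.clSub_ses (KRR.vbP X) hse (hT n 0) hf kf

end Groth.Agent.ExtPowSh
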