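import Groth.Agent.ExtPowSh.Filt
import Groth.Agent.KRRReg.RingModel
import Groth.Prelude.Def_KRR
import Mathlib.RingTheory.PowerSeries.Inverse
import Mathlib.RingTheory.PowerSeries.Basic

/-!
# λ-operations on `K(X)`
-/

set_option linter.style.haveILetI false
set_option linter.unusedSectionVars false
set_option backward.isDefEq.respectTransparency false
set_option backward.isDefEq.respectTransparency.types false
set_option maxHeartbeats 1000000
set_option autoImplicit false

universe v u

open CategoryTheory CategoryTheory.Limits AlgebraicGeometry TopologicalSpace Opposite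

noncomputable section

namespace Groth.Agent.ExtPowSh

variable {X : Scheme.{u}}

/-- Sections of the structure sheaf. -/
def unitSec (U : X.Opens) : Γ(X, U) ≃ₗ[Γ(X, U)] (Coh.structureModule X).val.obj (op U) where
  toFun r := r
  map_add' _ _ := rfl
  map_smul' _ _ := rfl
  invFun r := r
  left_inv _ := rfl
  right_inv _ := rfl

theorem isExtPow_zero (E : X.Modules) : ExtPow.IsExtPow 0 E (Coh.structureModule X) := by
  refine ⟨fun U => (unitSec U.1).symm.trans (exteriorPower.zeroEquiv Γ(X, U.1) (E.val.obj (op U.1))).symm, fun U V h e => ?_⟩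
  simp only [LinearEquiv.trans_symm, LinearEquiv.symm_symm, LinearEquiv.trans_apply, exteriorPower.zeroEquiv_ιMulti]
  exact map_one (X.presheaf.map (homOfLE h).op).hom

theorem isExtPow_one (E : X.Modules) : ExtPow.IsExtPow 1 E E := by
  refine ⟨fun U => (exteriorPower.oneEquiv Γ(X, U.1) (E.val.obj (op U.1))).symm, fun U V h e => ?_⟩
  simp only [LinearEquiv.symm_symm, exteriorPower.oneEquiv_ιMulti]

variable {K : Type v} [CommRing K] {φ : SGA6.Kvb X →+ K}

/-- The series of an additive unit. -/
def valS (a : Additive (PowerSeries K)ˣ) : PowerSeries K := ((Additive.toMul a : (PowerSeries K)ˣ) : PowerSeries K)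

theorem valS_add (a b : Additive (PowerSeries K)ˣ) : valS (a + b) = valS a * valS b := rfl

theorem valS_injective : Function.Injective (valS (K := K)) := fun _ _ h => Additive.toMul.injective (Units.ext h)

/-- `λ_t` of a bundle. -/
def lt (φ : SGA6.Kvb X →+ K) (E : X.Modules) : PowerSeries K :=
  PowerSeries.mk fun i => φ (KRR.cl X (L E i))

theorem cl_of_isExtPow {i : ℕ} {E L' : X.Modules} (hE : FlatMod.IsFinLocFree E) (h : ExtPow.IsExtPow i E L') :
    KRR.cl X (L E i) = KRR.cl X L' := by
  obtain ⟨e⟩ := nonempty_iso (isExtPow E i (QCoh.isQCoh_of_isFinLocFree hE)) h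
  exact KRRReg.cl_iso e (isFinLocFree hE)

theorem constantCoeff_lt (hφ : KRRReg.IsRingModel X K φ) {E : X.Modules} (hE : FlatMod.IsFinLocFree E) :
    PowerSeries.constantCoeff (lt φ E) = 1 := by
  rw [lt, PowerSeries.constantCoeff_mk, cl_of_isExtPow hE (isExtPow_zero E)]
  exact hφ.map_one

theorem lt_mul (hφ : KRRReg.IsRingModel X K φ) {S : ShortComplex X.Modules} (hS : S.ShortExact)
    (h₁ : FlatMod.IsFinLocFree S.X₁) (h₃ : FlatMod.IsFinLocFree S.X₃) :
    lt φ S.X₂ = lt φ S.X₁ * lt φ S.X₃ := by
  ext n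
  simp only [lt, PowerSeries.coeff_mk, PowerSeries.coeff_mul]
  rw [Finset.Nat.sum_antidiagonal_eq_sum_range_succ_mk, cl_eq_sum hS h₁ h₃ n, map_sum]
  exact Finset.sum_congr rfl fun i _ => (hφ.map_mul _ _ (isFinLocFree h₁) (isFinLocFree h₃)).symm

/-- `λ_t` on `K(X)`. -/
theorem exists_lamHom (hφ : KRRReg.IsRingModel X K φ) :
    ∃ Λ : SGA6.Kvb X →+ Additive (PowerSeries K)ˣ, ∀ E, FlatMod.IsFinLocFree E →
      (valS (Λ (KRR.cl X E))) = lt φ E := by
  classical
  let u : X.Modules → Additive (PowerSeries K)ˣ := fun E =>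
    if h : FlatMod.IsFinLocFree E then
      Additive.ofMul (PowerSeries.isUnit_iff_constantCoeff.2
        (constantCoeff_lt hφ h ▸ isUnit_one) : IsUnit (lt φ E)).unit
    else 0
  have hu : ∀ E, FlatMod.IsFinLocFree E → (valS (u E)) = lt φ E := fun E hE => by
    simp only [u, dif_pos hE, valS, toMul_ofMul, IsUnit.unit_spec]
  obtain ⟨Λ, hΛ⟩ := KZ.exists_liftSub (KRR.vbP X) u fun S hS h₁ h₂ h₃ => by
    refine valS_injective ?_
    rw [valS_add, hu _ h₂, hu _ h₁, hu _ h₃]
    exact lt_mul hφ hS h₁ h₃
  exact ⟨Λ, fun E hE => by rw [show Λ (KRR.cl X E) = u E from hΛ E hE]; exact hu E hE⟩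

/-- A ring model of `K(X)` has λ-operations given by exterior powers. -/
theorem exists_lamOps (hφ : KRRReg.IsRingModel X K φ) :
    ∃ o : LambdaRing.LambdaOps K, ∀ (i : ℕ) (E L' : X.Modules), FlatMod.IsFinLocFree E →
      ExtPow.IsExtPow i E L' → o.lam i (φ (KRR.cl X E)) = φ (KRR.cl X L') := by
  obtain ⟨Λ, hΛ⟩ := exists_lamHom hφ
  let e := Equiv.ofBijective φ hφ.bijective
  have heφ : ∀ x, e.symm (φ x) = x := fun x => e.symm_apply_apply x
  let lam : ℕ → K → K := fun i x => PowerSeries.coeff i (valS (Λ (e.symm x)))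
  have hlam : ∀ i E, FlatMod.IsFinLocFree E → lam i (φ (KRR.cl X E)) = φ (KRR.cl X (L E i)) := fun i E hE => by
    simp only [lam, heφ, hΛ E hE, lt, PowerSeries.coeff_mk]
  have hadd : ∀ x y, e.symm (x + y) = e.symm x + e.symm y := fun x y => by
    refine e.injective ?_
    rw [e.apply_symm_apply]
    show x + y = φ _
    rw [map_add]
    exact congrArg₂ (· + ·) (e.apply_symm_apply x).symm (e.apply_symm_apply y).symm
  have hc : ∀ z, PowerSeries.constantCoeff (valS (Λ z)) = 1 := by
    let c : Additive (PowerSeries K)ˣ →+ Additive Kˣ := (Units.map (PowerSeries.constantCoeff (R := K)).toMonoidHom).toAdditive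
    intro z
    have h := DFunLike.congr_fun (KZ.K0sub_hom_ext (KRR.vbP X) (f := c.comp Λ) (g := 0) fun E hE => by
      refine Additive.toMul.injective (Units.ext ?_)
      show PowerSeries.constantCoeff (valS (Λ (KRR.cl X E))) = 1
      rw [hΛ E hE]
      exact constantCoeff_lt hφ hE) z
    exact congrArg (fun t : Additive Kˣ => ((Additive.toMul t : Kˣ) : K)) h
  have h1 : ∀ z, PowerSeries.coeff 1 (valS (Λ z)) = φ z := by
    let g : SGA6.Kvb X →+ K := AddMonoidHom.mk' (fun z => PowerSeries.coeff 1 (valS (Λ z)))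
      fun a b => by
        simp only [map_add, valS_add, PowerSeries.coeff_mul,
          Finset.Nat.sum_antidiagonal_eq_sum_range_succ_mk, Finset.sum_range_succ, Finset.sum_range_zero,
          zero_add, Nat.sub_zero, Nat.sub_self, PowerSeries.coeff_zero_eq_constantCoeff_apply, hc, one_mul, mul_one,
          add_comm]
    intro z
    refine DFunLike.congr_fun (KZ.K0sub_hom_ext (KRR.vbP X) (f := g) (g := φ) fun E hE => ?_) z
    show PowerSeries.coeff 1 (valS (Λ (KRR.cl X E))) = φ (KRR.cl X E)
    rw [hΛ E hE, lt, PowerSeries.coeff_mk, cl_of_isExtPow hE (isExtPow_one E)]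
  refine ⟨{ lam := lam
            lam_zero := fun x => by
              simp only [lam, PowerSeries.coeff_zero_eq_constantCoeff_apply, hc]
            lam_one := fun x => (h1 _).trans (e.apply_symm_apply x)
            lam_add := fun k x y => by
              simp only [lam, hadd, map_add, valS_add, PowerSeries.coeff_mul,
                Finset.Nat.sum_antidiagonal_eq_sum_range_succ_mk] }, fun i E L' hE h => ?_⟩
  exact (hlam i E hE).trans (congrArg φ (cl_of_isExtPow hE h))

end Groth.Agent.ExtPowSh
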