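import Groth.Agent.ExtPowSh.Lambda
import Groth.Agent.H23.PicInv
import Groth.Agent.Lib.InvEnd
import Groth.Agent.H23.PullPush
import Mathlib.Topology.LocallyConstant.Basic

/-!
# `K(X)` as a λ-ring with positive structure
-/

set_option linter.style.haveILetI false
set_option linter.unusedSectionVars false
set_option backward.isDefEq.respectTransparency false
set_option backward.isDefEq.respectTransparency.types false
set_option maxHeartbeats 1000000
set_option autoImplicit false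

universe v u

open CategoryTheory CategoryTheory.Limits AlgebraicGeometry TopologicalSpace Opposite

noncomputable section

namespace Groth.Agent.ExtPowSh

variable {X : Scheme.{u}}

/-- The rank at a point. -/
def rk (M : X.Modules) (x : X) : ℕ := Module.finrank (X.presheaf.stalk x) (M.presheaf.stalk x)

theorem rk_eq_finrank {M : X.Modules} (hM : Coh.IsQCoh M) {V : X.Opens} (hV : IsAffineOpen V)
    [Module.Free Γ(X, V) (M.val.obj (op V))] [Module.Finite Γ(X, V) (M.val.obj (op V))] {x : X} (hx : x ∈ V) :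
    rk M x = Module.finrank Γ(X, V) (M.val.obj (op V)) := by
  haveI : Nontrivial Γ(X, V) := (X.presheaf.germ V x hx).hom.domain_nontrivial
  let B := ((Module.finBasis Γ(X, V) (M.val.obj (op V))).reindex Equiv.ulift.{u}.symm).repr
  exact QCoh.finrank_stalk_of_freeChart hV hM
    ({ toFun := B, map_add' := map_add B, map_smul' := fun r a => B.map_smul r a
       invFun := B.symm, left_inv := B.symm_apply_apply, right_inv := B.apply_symm_apply } :
      Γ(M, V) ≃ₗ[Γ(X, V)] (ULift.{u} (Fin (Module.finrank Γ(X, V) (M.val.obj (op V)))) →₀ Γ(X, V))) hx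

theorem rk_eq {M : X.Modules} {r : ℕ} (hM : FlatMod.IsFinLocFreeOfRank r M) (x : X) : rk M x = r := by
  obtain ⟨U, hx, ⟨e⟩⟩ := hM x
  obtain ⟨V, hV, hxV, hle⟩ := exists_isAffineOpen_mem_and_subset (U := U) (x := x) hx
  obtain ⟨l⟩ := QCoh.free_sections hV hle e
  exact QCoh.finrank_stalk_of_freeChart hV
    (QCoh.isQCoh_of_isFinLocFree fun y => let ⟨U', hy, he⟩ := hM y; ⟨U', r, hy, he⟩) l hxV

theorem flf_of_rank {M : X.Modules} {r : ℕ} (hM : FlatMod.IsFinLocFreeOfRank r M) : FlatMod.IsFinLocFree M :=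
  fun y => let ⟨U, hy, he⟩ := hM y; ⟨U, r, hy, he⟩

theorem isFinLocFreeOfRank_rk [PreconnectedSpace ↥X] {M : X.Modules} (hM : FlatMod.IsFinLocFree M) (x₀ : X) :
    FlatMod.IsFinLocFreeOfRank (rk M x₀) M := fun x => by
  obtain ⟨U, n, hx, ⟨e⟩⟩ := hM x
  obtain ⟨V, hV, hxV, hle⟩ := exists_isAffineOpen_mem_and_subset (U := U) (x := x) hx
  obtain ⟨l⟩ := QCoh.free_sections hV hle e
  have h1 := QCoh.finrank_stalk_of_freeChart hV (QCoh.isQCoh_of_isFinLocFree hM) l hxV
  have h2 : rk M x = rk M x₀ := (QCoh.isLocallyConstant_rank hM).apply_eq_of_preconnectedSpace x x₀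
  obtain rfl : n = rk M x₀ := h1.symm.trans h2
  exact ⟨U, hx, ⟨e⟩⟩

theorem rk_add {S : ShortComplex X.Modules} (hS : S.ShortExact) (h₁ : FlatMod.IsFinLocFree S.X₁)
    (h₃ : FlatMod.IsFinLocFree S.X₃) (x : X) : rk S.X₂ x = rk S.X₁ x + rk S.X₃ x := by
  obtain ⟨V, hV, hxV, -⟩ := Opens.isBasis_iff_nbhd.1 (isBasis_small S h₁ h₃) (show x ∈ (⊤ : X.Opens) from trivial)
  have q₁ := QCoh.isQCoh_of_isFinLocFree h₁
  have q₃ := QCoh.isQCoh_of_isFinLocFree h₃
  obtain ⟨s, hgs, hs⟩ := exists_section hS q₁ hV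
  haveI := hV.free₁; haveI := hV.fin₁; haveI := hV.free₃; haveI := hV.fin₃
  haveI : Nontrivial Γ(X, V) := (X.presheaf.germ V x hxV).hom.domain_nontrivial
  let e := splitEquiv (appL S.f V) (appL S.g V) s hs (g_f V) hgs (inj_f hS V)
  haveI : Module.Free Γ(X, V) (S.X₂.val.obj (op V)) := Module.Free.of_equiv e
  haveI : Module.Finite Γ(X, V) (S.X₂.val.obj (op V)) := Module.Finite.equiv e
  rw [rk_eq_finrank (QCoh.isQCoh_X₂ hS q₁ q₃) hV.affine hxV, rk_eq_finrank q₁ hV.affine hxV,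
    rk_eq_finrank q₃ hV.affine hxV, ← e.finrank_eq, Module.finrank_prod]

theorem rk_tensor {M N : X.Modules} (hM : FlatMod.IsFinLocFree M) (hN : FlatMod.IsFinLocFree N) (x : X) :
    rk ((DCoh.tensorBi.obj M).obj N) x = rk M x * rk N x := by
  obtain ⟨U₁, n₁, hx₁, ⟨e₁⟩⟩ := hM x
  obtain ⟨U₃, n₃, hx₃, ⟨e₃⟩⟩ := hN x
  obtain ⟨V, hV, hxV, hle⟩ := exists_isAffineOpen_mem_and_subset (U := U₁ ⊓ U₃) (x := x) ⟨hx₁, hx₃⟩
  obtain ⟨l₁⟩ := QCoh.free_sections hV (fun y hy => (hle hy).1) e₁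
  obtain ⟨l₃⟩ := QCoh.free_sections hV (fun y hy => (hle hy).2) e₃
  have qM := QCoh.isQCoh_of_isFinLocFree hM
  have qN := QCoh.isQCoh_of_isFinLocFree hN
  let T := LinearEquiv.ofBijective (QCoh.tmLin M N V) (QCoh.bijective_tmLin qM qN hV)
  let P := T.symm.trans ((TensorProduct.congr l₁ l₃).trans
    ((finsuppTensorFinsupp' Γ(X, V) (ULift.{u} (Fin n₁)) (ULift.{u} (Fin n₃))).trans
      (Finsupp.domLCongr (((Equiv.ulift.{u}.prodCongr Equiv.ulift.{u}).trans finProdFinEquiv).trans Equiv.ulift.{u}.symm))))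
  rw [rk, rk, rk, QCoh.finrank_stalk_of_freeChart hV (KFlatLib.isQCoh_tensor qM qN) P hxV,
    QCoh.finrank_stalk_of_freeChart hV qM l₁ hxV, QCoh.finrank_stalk_of_freeChart hV qN l₃ hxV]

theorem isFinLocFree_biprod {A B : X.Modules} (hA : FlatMod.IsFinLocFree A) (hB : FlatMod.IsFinLocFree B) :
    FlatMod.IsFinLocFree (A ⊞ B) :=
  isFinLocFree_X₂ (ShortComplex.Splitting.ofHasBinaryBiproduct A B).shortExact (QCoh.isQCoh_of_isFinLocFree hA) hA hB

theorem cl_biprod {A B : X.Modules} (hA : FlatMod.IsFinLocFree A) (hB : FlatMod.IsFinLocFree B) :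
    KRR.cl X (A ⊞ B) = KRR.cl X A + KRR.cl X B :=
  KZ.clSub_ses (KRR.vbP X) (ShortComplex.Splitting.ofHasBinaryBiproduct A B).shortExact hA
    (isFinLocFree_biprod hA hB) hB

theorem exists_sub_cl (x : SGA6.Kvb X) : ∃ A B : X.Modules, FlatMod.IsFinLocFree A ∧ FlatMod.IsFinLocFree B ∧
    x = KRR.cl X A - KRR.cl X B := by
  let H : AddSubgroup (SGA6.Kvb X) :=
    { carrier := {z | ∃ A B : X.Modules, FlatMod.IsFinLocFree A ∧ FlatMod.IsFinLocFree B ∧
        z = KRR.cl X A - KRR.cl X B}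
      zero_mem' := ⟨Coh.structureModule X, Coh.structureModule X, KRRReg.isFinLocFree_structure X,
        KRRReg.isFinLocFree_structure X, (sub_self _).symm⟩
      add_mem' := by
        rintro _ _ ⟨A, B, hA, hB, rfl⟩ ⟨A', B', hA', hB', rfl⟩
        exact ⟨A ⊞ A', B ⊞ B', isFinLocFree_biprod hA hA', isFinLocFree_biprod hB hB', by
          rw [cl_biprod hA hA', cl_biprod hB hB']; abel⟩
      neg_mem' := by
        rintro _ ⟨A, B, hA, hB, rfl⟩
        exact ⟨B, A, hB, hA, neg_sub _ _⟩ }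
  have h := DFunLike.congr_fun (KZ.K0sub_hom_ext (KRR.vbP X) (f := QuotientAddGroup.mk' H) (g := 0) fun E hE =>
    (QuotientAddGroup.eq_zero_iff _).2 ⟨E ⊞ Coh.structureModule X, Coh.structureModule X,
      isFinLocFree_biprod hE (KRRReg.isFinLocFree_structure X), KRRReg.isFinLocFree_structure X, by
        rw [cl_biprod hE (KRRReg.isFinLocFree_structure X), add_sub_cancel_right]⟩) x
  exact (QuotientAddGroup.eq_zero_iff _).1 h

/-- The rank as a map on `K(X)`. -/
theorem exists_rankHom (x : X) : ∃ r : SGA6.Kvb X →+ ℤ, ∀ E, FlatMod.IsFinLocFree E → r (KRR.cl X E) = rk E x := by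
  obtain ⟨r, hr⟩ := KZ.exists_liftSub (KRR.vbP X) (fun E => (rk E x : ℤ)) fun S hS h₁ h₂ h₃ => by
    rw [rk_add hS h₁ h₃ x, Nat.cast_add]
  exact ⟨r, hr⟩

theorem isZero_of_rank_zero {M : X.Modules} (h : FlatMod.IsFinLocFreeOfRank 0 M) : IsZero M := by
  rw [IsZero.iff_id_eq_zero]
  have hq := QCoh.isQCoh_of_isFinLocFree (flf_of_rank h)
  refine hom_eq_zero_of_isBasis _ (B := {V | IsAffineOpen V ∧ Subsingleton (M.val.obj (op V))}) ?_ fun V hV s => ?_
  · refine Opens.isBasis_iff_nbhd.2 fun {W y} hy => ?_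
    obtain ⟨U, hyU, ⟨e⟩⟩ := h y
    obtain ⟨V, hV, hyV, hle⟩ := exists_isAffineOpen_mem_and_subset (U := W ⊓ U) (x := y) ⟨hy, hyU⟩
    obtain ⟨l⟩ := QCoh.free_sections hV (fun z hz => (hle hz).2) e
    exact ⟨V, ⟨hV, l.toEquiv.subsingleton⟩, hyV, fun z hz => (hle hz).1⟩
  · exact hV.2.elim _ _

/-- `K(X)` of a connected scheme is a λ-ring with positive structure. -/
theorem exists_model [ConnectedSpace ↥X] :
    ∃ (K : Type (u + 1)) (_ : CommRing K) (_ : LambdaRing.LambdaOps K) (P : LambdaRing.PosStructure K)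
      (φ : SGA6.Kvb X →+ K), KRR.IsModel X K P φ := by
  obtain ⟨x₀⟩ := (inferInstance : Nonempty ↥X)
  obtain ⟨K, _, φ, hφ⟩ := KRRReg.exists_ringModel X
  obtain ⟨o, ho⟩ := exists_lamOps hφ
  obtain ⟨r, hr⟩ := exists_rankHom x₀
  let e : SGA6.Kvb X ≃+ K := AddEquiv.ofBijective φ hφ.bijective
  let ε₀ : K →+ ℤ := r.comp e.symm.toAddMonoidHom
  have hε : ∀ E, FlatMod.IsFinLocFree E → ε₀ (φ (KRR.cl X E)) = rk E x₀ := fun E hE => by
    show r (e.symm (e _)) = _
    rw [AddEquiv.symm_apply_apply, hr E hE]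
  have hO1 : FlatMod.IsFinLocFreeOfRank 1 (Coh.structureModule X) :=
    InvEnd.isFinLocFreeOfRank_one InvX.isInvertible_structureModule
  have hone : ε₀ 1 = 1 := by
    rw [← hφ.map_one, hε _ (flf_of_rank hO1), rk_eq hO1, Nat.cast_one]
  have hgen : ∀ {f g : K →+ ℤ}, (∀ E, FlatMod.IsFinLocFree E → f (φ (KRR.cl X E)) = g (φ (KRR.cl X E))) → f = g :=
    fun {f g} h => AddMonoidHom.ext fun k => by
      obtain ⟨z, rfl⟩ := hφ.bijective.2 k
      exact DFunLike.congr_fun (KZ.K0sub_hom_ext (KRR.vbP X) (f := f.comp φ) (g := g.comp φ) h) z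
  have hmul : ∀ a b, ε₀ (a * b) = ε₀ a * ε₀ b := fun a b => by
    refine DFunLike.congr_fun (hgen (f := ε₀.comp (AddMonoidHom.mulRight b))
      (g := (AddMonoidHom.mulRight (ε₀ b)).comp ε₀) fun E hE => ?_) a
    refine DFunLike.congr_fun (hgen (f := ε₀.comp (AddMonoidHom.mulLeft (φ (KRR.cl X E))))
      (g := (AddMonoidHom.mulLeft (ε₀ (φ (KRR.cl X E)))).comp ε₀) fun F hF => ?_) b
    show ε₀ (φ (KRR.cl X E) * φ (KRR.cl X F)) = ε₀ (φ (KRR.cl X E)) * ε₀ (φ (KRR.cl X F))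
    rw [hφ.map_mul E F hE hF, hε _ (KFlatLib.isFinLocFree_tensor hE hF), hε E hE, hε F hF, rk_tensor hE hF,
      Nat.cast_mul]
  let ε : K →+* ℤ := { ε₀ with map_one' := hone, map_mul' := hmul }
  let pos : Set K := {x | ∃ (n : ℕ) (E : X.Modules), 1 ≤ n ∧ FlatMod.IsFinLocFreeOfRank n E ∧ φ (KRR.cl X E) = x}
  have hadd : ∀ a b, a ∈ pos → b ∈ pos → a + b ∈ pos := by
    rintro _ _ ⟨n, E, hn, hE, rfl⟩ ⟨m, F, hm, hF, rfl⟩
    refine ⟨rk (E ⊞ F) x₀, E ⊞ F, ?_, isFinLocFreeOfRank_rk (isFinLocFree_biprod (flf_of_rank hE) (flf_of_rank hF)) x₀,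
      by rw [cl_biprod (flf_of_rank hE) (flf_of_rank hF), map_add]⟩
    have h : rk (E ⊞ F) x₀ = n + m := (rk_add (ShortComplex.Splitting.ofHasBinaryBiproduct E F).shortExact
      (flf_of_rank hE) (flf_of_rank hF) x₀).trans (congrArg₂ (· + ·) (rk_eq hE x₀) (rk_eq hF x₀))
    omega
  have h1 : (1 : K) ∈ pos := ⟨1, _, le_rfl, hO1, hφ.map_one⟩
  have hnat : ∀ m : ℕ, ((m + 1 : ℕ) : K) ∈ pos := fun m => by
    induction m with
    | zero => simpa using h1
    | succ m ih => rw [Nat.cast_add, Nat.cast_one]; exact hadd _ _ ih h1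
  let P : LambdaRing.PosStructure K :=
    { aug := ε
      aug_surjective := fun n => ⟨(n : K), map_intCast ε n⟩
      pos := pos
      add_mem := hadd
      mul_mem := by
        rintro _ _ ⟨n, E, hn, hE, rfl⟩ ⟨m, F, hm, hF, rfl⟩
        have hT := KFlatLib.isFinLocFree_tensor (flf_of_rank hE) (flf_of_rank hF)
        refine ⟨_, _, ?_, isFinLocFreeOfRank_rk hT x₀, (hφ.map_mul E F (flf_of_rank hE) (flf_of_rank hF)).symm⟩
        rw [rk_tensor (flf_of_rank hE) (flf_of_rank hF), rk_eq hE, rk_eq hF]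
        exact Nat.mul_pos hn hm
      natCast_mem := fun n hn => by
        obtain ⟨m, rfl⟩ := Nat.exists_eq_succ_of_ne_zero (by omega : n ≠ 0)
        exact hnat m
      exists_sub := fun k => by
        obtain ⟨z, rfl⟩ := hφ.bijective.2 k
        obtain ⟨A, B, hA, hB, rfl⟩ := exists_sub_cl z
        have key : ∀ {C : X.Modules}, FlatMod.IsFinLocFree C → φ (KRR.cl X C) + 1 ∈ pos := fun {C} hC => by
          refine ⟨rk (C ⊞ Coh.structureModule X) x₀, C ⊞ Coh.structureModule X, ?_,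
            isFinLocFreeOfRank_rk (isFinLocFree_biprod hC (flf_of_rank hO1)) x₀,
            by rw [cl_biprod hC (flf_of_rank hO1), map_add, hφ.map_one]⟩
          have h : rk (C ⊞ Coh.structureModule X) x₀ = rk C x₀ + 1 :=
            (rk_add (ShortComplex.Splitting.ofHasBinaryBiproduct C (Coh.structureModule X)).shortExact
              hC (flf_of_rank hO1) x₀).trans (congrArg (rk C x₀ + ·) (rk_eq hO1 x₀))
          omega
        exact ⟨_, _, key hA, key hB, by rw [map_sub]; ring⟩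
      aug_pos := by
        rintro _ ⟨n, E, hn, hE, rfl⟩
        show 0 < ε₀ _
        rw [hε E (flf_of_rank hE), rk_eq hE]
        exact_mod_cast hn
      lam_eq_zero := by
        rintro _ ⟨n, E, hn, hE, rfl⟩ i hi
        change ε₀ _ < _ at hi
        rw [hε E (flf_of_rank hE), rk_eq hE, Nat.cast_lt] at hi
        have hr0 : FlatMod.IsFinLocFreeOfRank 0 (L E i) := Nat.choose_eq_zero_of_lt hi ▸ isFinLocFreeOfRank hE
        rw [ho i E _ (flf_of_rank hE) (isExtPow E i (QCoh.isQCoh_of_isFinLocFree (flf_of_rank hE))),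
          show KRR.cl X (L E i) = 0 from KZ.clSub_isZero _ (isZero_of_rank_zero hr0), map_zero]
      isUnit_lam := by
        rintro _ ⟨n, E, hn, hE, rfl⟩
        show IsUnit (o.lam (ε₀ _).toNat _)
        rw [hε E (flf_of_rank hE), rk_eq hE, Int.toNat_natCast]
        have hE' := isExtPow E n (QCoh.isQCoh_of_isFinLocFree (flf_of_rank hE))
        rw [ho n E _ (flf_of_rank hE) hE']
        have hinv := TopDiff.isInvertible_of_isExtPow hE hE'
        obtain ⟨D, hD, ⟨d⟩⟩ := H23.PicInv.exists_inverse hinv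
        refine IsUnit.of_mul_eq_one (φ (KRR.cl X D)) ?_
        rw [hφ.map_mul _ _ (H23.PullPush.isFinLocFree_of_isInvertible hinv)
          (H23.PullPush.isFinLocFree_of_isInvertible hD), ← hφ.map_one]
        exact congrArg φ (KRRReg.cl_iso d (KFlatLib.isFinLocFree_tensor
          (H23.PullPush.isFinLocFree_of_isInvertible hinv) (H23.PullPush.isFinLocFree_of_isInvertible hD))) }
  exact ⟨K, _, o, P, φ,
    { bijective := hφ.bijective
      map_one := hφ.map_one
      map_mul := hφ.map_mul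
      map_lam := fun i E L' hE _ h => ho i E L' hE h
      aug_cl := fun n E hE => by
        show ε₀ _ = _
        rw [hε E (flf_of_rank hE), rk_eq hE]
      mem_pos_iff := fun x => Iff.rfl }⟩

end Groth.Agent.ExtPowSh
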